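import Mathlib

/-!
# Class numbers of `A₄`, `S₄`, `A₅`
-/

set_option autoImplicit false

namespace Cfsg.Agent.H717.SmallClass

theorem card_conj_of {G : Type*} [Group G] [Fintype G] [DecidableEq G] {a b : ℕ}
    (h : (Finset.univ.filter (fun p : G × G => p.1 * p.2 = p.2 * p.1)).card = a * b)
    (hG : Fintype.card G = b) (hb : 0 < b) : Nat.card (ConjClasses G) = a := by
  have h1 := card_comm_eq_card_conjClasses_mul_card G
  have h2 : Nat.card {p : G × G // Commute p.1 p.2} = a * b := by
    rw [← h]
    refine Nat.subtype_card _ (fun p => ?_)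
    rw [Finset.mem_filter]
    exact ⟨fun h => h.2, fun h => ⟨Finset.mem_univ _, h⟩⟩
  rw [h2, Nat.card_eq_fintype_card (α := G), hG] at h1
  exact (Nat.eq_of_mul_eq_mul_right hb h1).symm

theorem conj_sym_four : Nat.card (ConjClasses (Equiv.Perm (Fin 4))) = 5 :=
  card_conj_of (b := 24) (by decide +kernel) (by decide +kernel) (by norm_num)

theorem conj_alt_four : Nat.card (ConjClasses (alternatingGroup (Fin 4))) = 4 :=
  card_conj_of (b := 12) (by decide +kernel) (by decide +kernel) (by norm_num)

theorem conj_alt_five : Nat.card (ConjClasses (alternatingGroup (Fin 5))) = 5 :=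
  card_conj_of (b := 60) (by decide +kernel) (by decide +kernel) (by norm_num)

end Cfsg.Agent.H717.SmallClass
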