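import Mathlib
import Cfsg.Agent.ClassicalGeometry.PolePrime
import Cfsg.Agent.ClassicalGeometry.PoleBridge

/-!
# Coprime linear groups of degree two

* `exists_psl` : the homomorphism from a subgroup of `GL₂(k)`, `k` algebraically closed, to `PSL₂(k)`;
* `tame` : the image of a finite group of order prime to the characteristic is cyclic, dihedral, `A₄`, `S₄`
  or `A₅`;
* `cases` : a finite group of order prime to `p` acting faithfully and linearly on a two-dimensional space over a
  field `K` of characteristic `p` has an abelian normal subgroup of index at most two, or is `A₄`, `S₄`, `A₅` modulo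
  the scalars.
-/

set_option autoImplicit false
set_option linter.style.haveILetI false

namespace Cfsg.Agent.H717.Dickson

section alg

variable {k : Type*} [Field k]

local notation "SL2" => Matrix.SpecialLinearGroup (Fin 2)
local notation "PSL2" => Matrix.ProjectiveSpecialLinearGroup (Fin 2)
local notation "M2" => Matrix (Fin 2) (Fin 2)

theorem mk_eq_of_smul {A B : SL2 k} {c : k} (h : (A : M2 k) = c • (B : M2 k)) :
    (QuotientGroup.mk A : PSL2 k) = QuotientGroup.mk B := by
  symm
  rw [QuotientGroup.eq, Subgroup.mem_center_iff]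
  intro g
  apply Matrix.SpecialLinearGroup.ext
  have h1 : ((B⁻¹ * A : SL2 k) : M2 k) = c • (1 : M2 k) := by
    rw [Matrix.SpecialLinearGroup.coe_mul, h, Matrix.mul_smul, ← Matrix.SpecialLinearGroup.coe_mul, inv_mul_cancel,
      Matrix.SpecialLinearGroup.coe_one]
  have h2 : ((g * (B⁻¹ * A) : SL2 k) : M2 k) = ((B⁻¹ * A * g : SL2 k) : M2 k) := by
    rw [Matrix.SpecialLinearGroup.coe_mul g, Matrix.SpecialLinearGroup.coe_mul (B⁻¹ * A), h1, Matrix.mul_smul,
      Matrix.smul_mul, mul_one, one_mul]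
  intro i j
  exact congrFun (congrFun h2 i) j

theorem exists_psl [IsAlgClosed k] {D : Type*} [Group D] (ρ : D →* GL (Fin 2) k) :
    ∃ ψ : D →* PSL2 k, ∀ d, ψ d = 1 ↔ ∃ c : k, ((ρ d : GL (Fin 2) k) : M2 k) = c • (1 : M2 k) := by
  have hs : ∀ d : D, ∃ s : k, ((ρ d : GL (Fin 2) k) : M2 k).det = s * s := fun d =>
    IsAlgClosed.exists_eq_mul_self _
  choose s hs using hs
  have hdet : ∀ d : D, ((ρ d : GL (Fin 2) k) : M2 k).det ≠ 0 := by
    intro d h
    have h1 : IsUnit ((ρ d : GL (Fin 2) k) : M2 k).det :=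
      (Matrix.isUnit_iff_isUnit_det _).1 (Units.isUnit _)
    rw [h] at h1
    exact not_isUnit_zero h1
  have hs0 : ∀ d, s d ≠ 0 := by
    intro d h
    apply hdet d
    rw [hs, h, mul_zero]
  let S : D → SL2 k := fun d =>
    ⟨(s d)⁻¹ • ((ρ d : GL (Fin 2) k) : M2 k), by
      rw [Matrix.det_smul, Fintype.card_fin, hs]
      have := hs0 d
      field_simp⟩
  have hS : ∀ d, (S d : M2 k) = (s d)⁻¹ • ((ρ d : GL (Fin 2) k) : M2 k) :=
    fun _ => rfl
  let ψ : D →* PSL2 k := MonoidHom.mk' (fun d => QuotientGroup.mk (S d)) (by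
    intro a b
    rw [← QuotientGroup.mk_mul]
    refine (mk_eq_of_smul (c := (s a)⁻¹ * (s b)⁻¹ * s (a * b)) ?_).symm
    rw [Matrix.SpecialLinearGroup.coe_mul, hS, hS, hS, map_mul, Units.val_mul, Matrix.smul_mul, Matrix.mul_smul,
      smul_smul, smul_smul, mul_assoc _ (s (a * b)), mul_inv_cancel₀ (hs0 _), mul_one])
  refine ⟨ψ, fun d => ?_⟩
  change (QuotientGroup.mk (S d) : PSL2 k) = 1 ↔ _
  constructor
  · intro h
    rw [QuotientGroup.eq_one_iff, Matrix.SpecialLinearGroup.mem_center_iff] at h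
    obtain ⟨r, -, hr⟩ := h
    refine ⟨s d * r, ?_⟩
    rw [hS] at hr
    rw [mul_smul, Matrix.smul_one_eq_diagonal]
    have h2 : (Matrix.diagonal fun _ => r : M2 k) = (s d)⁻¹ • ((ρ d : GL (Fin 2) k) : M2 k) := hr
    rw [h2, smul_smul, mul_inv_cancel₀ (hs0 d), one_smul]
  · rintro ⟨c, hc⟩
    have h1 : (QuotientGroup.mk (S d) : PSL2 k) = QuotientGroup.mk (1 : SL2 k) := by
      refine mk_eq_of_smul (c := (s d)⁻¹ * c) ?_
      rw [hS, hc, smul_smul, Matrix.SpecialLinearGroup.coe_one]
    rw [h1]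
    rfl

/-- The tame finite subgroups of `PSL₂(k)`. -/
theorem tame [IsAlgClosed k] (p : ℕ) [hp : Fact p.Prime] [CharP k p] (Γ : Subgroup (PSL2 k)) [Finite Γ]
    (hΓ : ¬ p ∣ Nat.card Γ) :
    IsCyclic Γ ∨ (∃ n : ℕ, 2 ≤ n ∧ Nonempty (Γ ≃* DihedralGroup n)) ∨
      Nonempty (Γ ≃* alternatingGroup (Fin 4)) ∨ Nonempty (Γ ≃* Equiv.Perm (Fin 4)) ∨
      Nonempty (Γ ≃* alternatingGroup (Fin 5)) := by
  classical
  letI := ClassicalGeometry.PoleBridge.act Γ.subtype
  have hP := ClassicalGeometry.PoleBridge.pole_of_injective p Γ.subtype Γ.subtype_injective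
  have hone : ∀ g : Γ, g ^ p = 1 → g = 1 := by
    intro g hg
    have h1 := orderOf_dvd_of_pow_eq_one hg
    rcases (Nat.dvd_prime hp.out).1 h1 with h2 | h2
    · exact orderOf_eq_one_iff.1 h2
    · exact absurd (h2 ▸ orderOf_dvd_natCard g) hΓ
  refine ClassicalGeometry.PolePrime.pole_prime (G := Γ) (Ω := OnePoint k) ?_ ?_
  · intro g hg
    exact hP.two g (fun h => hg (hone g h))
  · intro x
    obtain ⟨χ, hχ⟩ := hP.chi x
    refine isCyclic_of_injective_ringHom ((Units.coeHom k).comp χ) (Units.val_injective.comp ?_)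
    rw [injective_iff_map_eq_one]
    intro g hg
    have h2 := (hχ g).1 hg
    apply Subtype.ext
    exact hone _ (congrArg Subtype.val h2)

end alg

/-- A group whose image under a homomorphism with central kernel is dihedral has an abelian normal subgroup of
index two. -/
theorem exists_index_two {D Γ : Type*} [Group D] [Finite D] [Group Γ] (f : D →* Γ)
    (hf : Function.Surjective f) (hk : f.ker ≤ Subgroup.center D) {n : ℕ} (hn : 2 ≤ n) (e : Γ ≃* DihedralGroup n) :
    ∃ B : Subgroup D, B.Normal ∧ (∀ a ∈ B, ∀ b ∈ B, a * b = b * a) ∧ B.index = 2 ∧ f.ker ≤ B := by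
  let g : D →* DihedralGroup n := e.toMonoidHom.comp f
  have hg : Function.Surjective g := e.surjective.comp hf
  haveI : NeZero n := ⟨by omega⟩
  let R : Subgroup (DihedralGroup n) := Subgroup.zpowers (DihedralGroup.r 1)
  have hR : R.index = 2 := by
    have h1 := R.card_mul_index
    rw [Nat.card_zpowers, DihedralGroup.orderOf_r_one, DihedralGroup.nat_card] at h1
    have h2 : n * R.index = n * 2 := by rw [h1, mul_comm]
    exact Nat.eq_of_mul_eq_mul_left (by omega) h2
  have hB : (R.comap g).index = 2 := by rw [Subgroup.index_comap_of_surjective _ hg, hR]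
  have hker : f.ker ≤ R.comap g := by
    intro d hd
    rw [Subgroup.mem_comap]
    have : g d = 1 := by
      change e (f d) = 1
      rw [(MonoidHom.mem_ker).1 hd, map_one]
    rw [this]
    exact one_mem _
  refine ⟨R.comap g, Subgroup.normal_of_index_eq_two hB, ?_, hB, hker⟩
  intro a ha b hb
  let h : R.comap g →* R := (g.comp (R.comap g).subtype).codRestrict R (fun x => x.2)
  have hhk : h.ker ≤ Subgroup.center (R.comap g) := by
    intro x hx
    have h1 : g (x : D) = 1 := congrArg Subtype.val (MonoidHom.mem_ker.1 hx)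
    have h2 : f (x : D) = 1 := by
      have h3 : e (f (x : D)) = 1 := h1
      exact (MulEquiv.map_eq_one_iff e).1 h3
    have h4 := hk (MonoidHom.mem_ker.2 h2)
    rw [Subgroup.mem_center_iff] at h4 ⊢
    intro y
    exact Subtype.ext (h4 y)
  have h5 := commutative_of_cyclic_center_quotient h hhk ⟨a, ha⟩ ⟨b, hb⟩
  exact congrArg Subtype.val h5

/-- **Coprime linear groups of degree two.** -/
theorem cases {K : Type*} [Field K] (p : ℕ) [hp : Fact p.Prime] [CharP K p] {D E : Type*} [Group D] [Finite D]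
    [AddCommGroup E] [Module K E] (hfr : Module.finrank K E = 2) [DistribMulAction D E] [FaithfulSMul D E]
    (hlin : ∀ (d : D) (c : K) (e : E), d • (c • e) = c • (d • e)) (hcop : ¬ p ∣ Nat.card D) :
    ∃ (Z : Subgroup D) (_ : Z.Normal), (∀ d, d ∈ Z ↔ ∃ c : K, ∀ e : E, d • e = c • e) ∧
      ((∃ B : Subgroup D, B.Normal ∧ (∀ a ∈ B, ∀ b ∈ B, a * b = b * a) ∧ B.index ∣ 2 ∧ Z ≤ B) ∨
        Nonempty ((D ⧸ Z) ≃* alternatingGroup (Fin 4)) ∨ Nonempty ((D ⧸ Z) ≃* Equiv.Perm (Fin 4)) ∨
        Nonempty ((D ⧸ Z) ≃* alternatingGroup (Fin 5))) := by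
  haveI : Module.Finite K E := Module.finite_of_finrank_eq_succ hfr
  let b : Module.Basis (Fin 2) K E := Module.finBasisOfFinrankEq K E hfr
  let θ : D →* Module.End K E :=
    { toFun := fun g =>
        { toFun := fun e => g • e
          map_add' := smul_add g
          map_smul' := fun c e => hlin g c e }
      map_one' := LinearMap.ext fun v => one_smul D v
      map_mul' := fun g g' => LinearMap.ext fun v => mul_smul g g' v }
  have hθ : ∀ g e, θ g e = g • e := fun _ _ => rfl
  let f : D →* Matrix (Fin 2) (Fin 2) K :=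
    (LinearMap.toMatrixAlgEquiv b : Module.End K E ≃ₐ[K] _).toAlgHom.toRingHom.toMonoidHom.comp θ
  have hf : ∀ d, f d = LinearMap.toMatrixAlgEquiv b (θ d) := fun _ => rfl
  let ι : K →+* AlgebraicClosure K := algebraMap K (AlgebraicClosure K)
  let ρ : D →* GL (Fin 2) (AlgebraicClosure K) :=
    (Matrix.GeneralLinearGroup.map ι).comp f.toHomUnits
  have hρ : ∀ d, ((ρ d : GL (Fin 2) (AlgebraicClosure K)) : Matrix (Fin 2) (Fin 2) (AlgebraicClosure K)) =
      (f d).map ι := fun _ => rfl
  obtain ⟨ψ, hψ⟩ := exists_psl ρ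
  have hZ : ∀ d, d ∈ ψ.ker ↔ ∃ c : K, ∀ e : E, d • e = c • e := by
    intro d
    rw [MonoidHom.mem_ker, hψ, hρ]
    constructor
    · rintro ⟨c, hc⟩
      refine ⟨f d 0 0, ?_⟩
      have h1 : f d = (f d 0 0) • (1 : Matrix (Fin 2) (Fin 2) K) := by
        have e00 := congrFun (congrFun hc 0) 0
        rw [Matrix.map_apply, Matrix.smul_apply, Matrix.one_apply_eq, smul_eq_mul, mul_one] at e00
        ext i j
        apply ι.injective
        have eij := congrFun (congrFun hc i) j
        rw [Matrix.map_apply] at eij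
        rw [eij, Matrix.smul_apply, Matrix.smul_apply, smul_eq_mul, smul_eq_mul, map_mul, e00]
        congr 1
        by_cases hij : i = j
        · subst hij; rw [Matrix.one_apply_eq, Matrix.one_apply_eq, map_one]
        · rw [Matrix.one_apply_ne hij, Matrix.one_apply_ne hij, map_zero]
      have h2 : θ d = (f d 0 0) • (1 : Module.End K E) := by
        apply (LinearMap.toMatrixAlgEquiv b).injective
        rw [map_smul, map_one, ← hf]
        exact h1
      intro e
      rw [← hθ, h2, LinearMap.smul_apply, Module.End.one_apply]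
    · rintro ⟨c, hc⟩
      refine ⟨ι c, ?_⟩
      have h2 : θ d = c • (1 : Module.End K E) := by
        apply LinearMap.ext
        intro e
        rw [hθ, hc, LinearMap.smul_apply, Module.End.one_apply]
      rw [hf, h2, map_smul, map_one]
      ext i j
      rw [Matrix.map_apply, Matrix.smul_apply, Matrix.smul_apply, smul_eq_mul, smul_eq_mul, map_mul]
      congr 1
      by_cases hij : i = j
      · subst hij; rw [Matrix.one_apply_eq, Matrix.one_apply_eq, map_one]
      · rw [Matrix.one_apply_ne hij, Matrix.one_apply_ne hij, map_zero]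
  have hcen : ψ.ker ≤ Subgroup.center D := by
    intro z hz
    obtain ⟨c, hc⟩ := (hZ z).1 hz
    rw [Subgroup.mem_center_iff]
    intro g
    apply FaithfulSMul.eq_of_smul_eq_smul (α := E)
    intro e
    rw [mul_smul, mul_smul, hc, hc, hlin]
  refine ⟨ψ.ker, inferInstance, hZ, ?_⟩
  haveI : CharP (AlgebraicClosure K) p := charP_of_injective_algebraMap ι.injective p
  haveI : Finite ψ.range := Set.finite_range ψ
  have hΓ : ¬ p ∣ Nat.card ψ.range := fun h => hcop (h.trans (by
    rw [← Subgroup.index_ker]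
    exact Subgroup.index_dvd_card _))
  have hsurj : Function.Surjective ψ.rangeRestrict := ψ.rangeRestrict_surjective
  have hker : ψ.rangeRestrict.ker = ψ.ker := MonoidHom.ker_rangeRestrict ψ
  rcases tame p ψ.range hΓ with h | ⟨n, hn, ⟨e⟩⟩ | ⟨⟨e⟩⟩ | ⟨⟨e⟩⟩ | ⟨⟨e⟩⟩
  · left
    refine ⟨⊤, inferInstance, ?_, by rw [Subgroup.index_top]; exact one_dvd _, le_top⟩
    intro a _ c _
    exact commutative_of_cyclic_center_quotient ψ.rangeRestrict (by rw [hker]; exact hcen) a c
  · left
    obtain ⟨B, hB1, hB2, hB3, hB4⟩ := exists_index_two ψ.rangeRestrict hsurj (by rw [hker]; exact hcen) hn e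
    exact ⟨B, hB1, hB2, by rw [hB3], by rw [← hker]; exact hB4⟩
  · right; left
    exact ⟨(QuotientGroup.quotientKerEquivRange ψ).trans e⟩
  · right; right; left
    exact ⟨(QuotientGroup.quotientKerEquivRange ψ).trans e⟩
  · right; right; right
    exact ⟨(QuotientGroup.quotientKerEquivRange ψ).trans e⟩

end Cfsg.Agent.H717.Dickson
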