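import Mathlib
import Cfsg.Agent.H717.Zsig
import Cfsg.Agent.H717.Plane
import Cfsg.Agent.S1161
import Cfsg.Agent.S0044
import Cfsg.Agent.S3430

/-!
# Coprime transitive linear groups

`trichotomy` : a group of order prime to `p` acting faithfully on an elementary abelian group of order `p ^ n`,
transitively on the nonzero elements, is semilinear of dimension one, or `n = 2`, or `p ^ n = 81`.
-/

set_option autoImplicit false
set_option linter.style.haveILetI false
set_option linter.unusedSectionVars false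

namespace Cfsg.Agent.H717.Coprime

open Cfsg.Agent.H717.Semi Cfsg.Agent.H717.FieldP Cfsg.Agent.H717.Zsig Cfsg.Agent.H717.Plane
open scoped commutatorElement

universe u v

variable {D : Type v} {E : Type u} [Group D] [Finite D] [AddCommGroup E] [Finite E] [Nontrivial E]
  [DistribMulAction D E] [FaithfulSMul D E]

theorem dvd_card (htr : ∀ x y : E, x ≠ 0 → y ≠ 0 → ∃ d : D, d • x = y) : Nat.card E - 1 ∣ Nat.card D := by
  obtain ⟨v, hv⟩ := exists_ne (0 : E)
  exact ⟨_, card_eq htr hv⟩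

theorem isSemi_of_prime (htr : ∀ x y : E, x ≠ 0 → y ≠ 0 → ∃ d : D, d • x = y)
    {p : ℕ} [hp : Fact p.Prime] (hpE : ∀ e : E, p • e = 0) (hcop : ¬ p ∣ Nat.card D)
    {n : ℕ} (hn : Nat.card E = p ^ n) (hn3 : 3 ≤ n) {r : ℕ} [hr : Fact r.Prime]
    (hrn : r ∣ p ^ n - 1) (hz : ∀ i : ℕ, 1 ≤ i → i < n → ¬ r ∣ p ^ i - 1)
    (hl : n + 1 < r ∨ r ^ 2 ∣ p ^ n - 1) : IsSemi D E := by
  have hdvd := dvd_card htr
  rw [hn] at hdvd
  have hnr := dvd_sub_one hr.out (by omega) hrn (Nat.one_le_pow _ _ hp.out.pos) hp.out.pos hz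
  have hr2 := hr.out.two_le
  have hnr1 : n ≤ r - 1 := Nat.le_of_dvd (by omega) hnr
  by_cases hsq : r ^ 2 ∣ Nat.card D
  · exact isSemi_of_sq htr hpE hcop hn (by omega) hrn hz hsq
  have hl' : n + 1 < r := by
    rcases hl with h | h
    · exact h
    · exact absurd (h.trans hdvd) hsq
  have h2n : 2 * n < r := by
    obtain ⟨k, hk⟩ := hnr
    rcases k with _ | _ | k
    · omega
    · omega
    · have h1 : n * 2 ≤ n * (k + 1 + 1) := Nat.mul_le_mul_left n (by omega)
      omega
  obtain ⟨ρ, hρ⟩ := Rep.exists_rep (D := D) hpE hcop hn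
  let P : Sylow r D := default
  have hrD : r ∣ Nat.card D := hrn.trans hdvd
  have hPr : Nat.card P = r := by
    obtain ⟨k, hk⟩ := IsPGroup.iff_card.1 P.isPGroup'
    have h1 : Nat.card (P : Subgroup D) ∣ Nat.card D := Subgroup.card_subgroup_dvd_card _
    have h2 : r ∣ Nat.card (P : Subgroup D) := P.dvd_card_of_dvd_card hrD
    change Nat.card (P : Subgroup D) = r
    change Nat.card (P : Subgroup D) = r ^ k at hk
    rcases k with _ | _ | k
    · rw [hk, pow_zero] at h2
      exact absurd (Nat.dvd_one.1 h2) hr.out.one_lt.ne'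
    · rw [hk, zero_add, pow_one]
    · rw [hk] at h1
      exact absurd ((pow_dvd_pow r (by omega : 2 ≤ k + 1 + 1)).trans h1) hsq
  by_cases hPn : (P : Subgroup D).Normal
  · haveI := hPn
    refine isSemi_of_isPGroup htr hpE hn hz (P : Subgroup D) P.isPGroup' ?_
    intro h
    change Nat.card (P : Subgroup D) = r at hPr
    rw [h, Subgroup.card_bot] at hPr
    exact hr.out.one_lt.ne hPr
  obtain ⟨h5, ⟨e⟩⟩ := Cfsg.Agent.H607.Ordinary.main r ρ hρ hsq P hPr hPn h2n
  have hZc : ∀ a ∈ Subgroup.center D, ∀ b ∈ Subgroup.center D, a * b = b * a := fun a _ b hb =>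
    Subgroup.mem_center_iff.1 hb a
  obtain ⟨K, _, _, _, _, φ, σ, d, j, g1, g2, g3, hinj, hd1, hj1, hK, hE, hfr, hdv, hidx⟩ :=
    exists_field_p htr hpE (Subgroup.center D) hZc
  have hdj : d * j = n := by
    rw [hE] at hn
    exact Nat.pow_right_injective hp.out.two_le hn
  rcases Nat.lt_or_ge j 2 with hj | hj
  · refine ⟨K, inferInstance, inferInstance, inferInstance, σ, g2, ?_⟩
    have : j = 1 := by omega
    rw [hK, hE, this, mul_one]
  exfalso
  have hcardP : Nat.card (Matrix.ProjectiveSpecialLinearGroup (Fin 2) (ZMod r)) = 2 * n * (n + 1) * (2 * n + 1) := by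
    have h6 := Cfsg.Agent.ClassicalGeometry.PSL2Basic.card_PSL2_odd (F := ZMod r) (by
      rw [ZMod.card]
      exact ⟨n, h5.symm⟩)
    rw [ZMod.card] at h6
    have h7 : r ^ 2 - 1 = 4 * n * (n + 1) := by
      have : r ^ 2 = 4 * n * (n + 1) + 1 := by rw [← h5]; ring
      omega
    have h8 : r * (4 * n * (n + 1)) = (2 * n * (n + 1) * (2 * n + 1)) * 2 := by rw [← h5]; ring
    rw [h7, h8] at h6
    exact Nat.eq_of_mul_eq_mul_right (by norm_num : 0 < 2) h6
  have hcD : Nat.card (Subgroup.center D) * (2 * n * (n + 1) * (2 * n + 1)) = Nat.card D := by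
    rw [← hcardP, ← Nat.card_congr e.toEquiv, ← Subgroup.index_eq_card]
    exact (Subgroup.center D).card_mul_index
  have hNd : 2 * n * (n + 1) * (2 * n + 1) ∣ Nat.card D := ⟨_, by rw [← hcD, mul_comm]⟩
  have hp5 : 5 ≤ p := by
    have h2 : p ≠ 2 := by
      rintro rfl
      exact hcop (Dvd.dvd.trans ⟨n * (n + 1) * (2 * n + 1), by ring⟩ hNd)
    have h3 : p ≠ 3 := by
      rintro rfl
      have h4 := Cfsg.Agent.ThreePrime.OrderThree.three_dvd_card_psl (ZMod r)
      rw [hcardP] at h4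
      exact hcop (h4.trans hNd)
    have h4 : p ≠ 4 := by
      rintro rfl
      exact absurd hp.out (by norm_num)
    have := hp.out.two_le
    omega
  refine numeric hp.out hr.out hn3 h5 hdj hj hp5 ?_ (fun h => hcop (h.trans hNd))
  refine hdvd.trans ?_
  rw [← hcD]
  exact Nat.mul_dvd_mul_right hdv _

/-- Groups of odd order. -/
theorem isSemi_of_odd (htr : ∀ x y : E, x ≠ 0 → y ≠ 0 → ∃ d : D, d • x = y)
    {p : ℕ} [hp : Fact p.Prime] (hpE : ∀ e : E, p • e = 0) (hodd : Odd (Nat.card D)) : IsSemi D E := by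
  obtain ⟨h1, h2, h3⟩ := Cfsg.Agent.S1161.result (D := D) (E := E) hodd hp.out hpE htr
  have hFn : (Cfsg.fittingSubgroup D).Normal := Cfsg.Agent.S0044.fittingSubgroup_normal D
  have hFc : ∀ a ∈ Cfsg.fittingSubgroup D, ∀ b ∈ Cfsg.fittingSubgroup D, a * b = b * a := by
    intro a ha b hb
    haveI := h1
    letI := IsCyclic.commGroup (α := Cfsg.fittingSubgroup D)
    exact congrArg Subtype.val (mul_comm (⟨a, ha⟩ : Cfsg.fittingSubgroup D) ⟨b, hb⟩)
  haveI : Group.IsSolvable D := by
    haveI : Group.IsSolvable (Cfsg.fittingSubgroup D) :=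
      Group.isSolvable_of_comm fun a b => Subtype.ext (hFc a a.2 b b.2)
    haveI : Group.IsSolvable (D ⧸ Cfsg.fittingSubgroup D) := by
      refine Group.isSolvable_of_comm fun a b => ?_
      induction a using QuotientGroup.induction_on with
      | H a =>
        induction b using QuotientGroup.induction_on with
        | H b =>
          rw [← QuotientGroup.mk_mul, ← QuotientGroup.mk_mul, QuotientGroup.eq]
          have h4 : ⁅b⁻¹, a⁻¹⁆ ∈ Cfsg.fittingSubgroup D := h3 (Subgroup.commutator_mem_commutator (Subgroup.mem_top _) (Subgroup.mem_top _))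
          rw [commutatorElement_def, inv_inv, inv_inv] at h4
          have h5 : (a * b)⁻¹ * (b * a) = b⁻¹ * a⁻¹ * b * a := by group
          rw [h5]
          exact h4
    exact Group.isSolvable_of_ker_le_range (Cfsg.fittingSubgroup D).subtype
      (QuotientGroup.mk' (Cfsg.fittingSubgroup D)) (by rw [QuotientGroup.ker_mk', Subgroup.range_subtype])
  exact isSemi_of_centralizer_le htr hpE _ hFc Cfsg.Agent.S0044.result

/-- A nontrivial normal `r`-subgroup contains a nontrivial commutative normal subgroup. -/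
theorem exists_comm {r : ℕ} [hr' : Fact r.Prime] (N : Subgroup D) [N.Normal] (hN : IsPGroup r N) (hN1 : N ≠ ⊥) :
    ∃ A : Subgroup D, A.Normal ∧ (∀ a ∈ A, ∀ b ∈ A, a * b = b * a) ∧ r ∣ Nat.card A := by
  haveI : Nontrivial N := (Subgroup.nontrivial_iff_ne_bot N).2 hN1
  haveI : Nontrivial (Subgroup.center N) := hN.center_nontrivial
  refine ⟨(Subgroup.center N).map N.subtype, inferInstance, ?_, ?_⟩
  · rintro _ ⟨a, ha, rfl⟩ _ ⟨b, hb, rfl⟩
    have := (Subgroup.mem_center_iff.1 hb) a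
    exact congrArg Subtype.val this
  · rw [Subgroup.card_map_of_injective N.subtype_injective]
    have h2 : IsPGroup r (Subgroup.center N) := hN.to_subgroup _
    obtain ⟨k, hk⟩ := IsPGroup.iff_card.1 h2
    have h3 : 1 < Nat.card (Subgroup.center N) := Finite.one_lt_card
    rw [hk] at h3 ⊢
    have : k ≠ 0 := by
      rintro rfl
      simp at h3
    exact dvd_pow_self r this

theorem sylow_ne_bot {r : ℕ} [hr' : Fact r.Prime] (P : Sylow r D) (h : r ∣ Nat.card D) : (P : Subgroup D) ≠ ⊥ := by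
  intro h1
  have h2 : r ∣ Nat.card (P : Subgroup D) := P.dvd_card_of_dvd_card h
  rw [h1, Subgroup.card_bot] at h2
  exact hr'.out.one_lt.ne' (Nat.dvd_one.1 h2)

theorem isSemi_three_six (htr : ∀ x y : E, x ≠ 0 → y ≠ 0 → ∃ d : D, d • x = y)
    (hpE : ∀ e : E, 3 • e = 0) (hcop : ¬ 3 ∣ Nat.card D) (hn : Nat.card E = 3 ^ 6) : IsSemi D E := by
  haveI : Fact (Nat.Prime 3) := ⟨by norm_num⟩
  haveI : Fact (Nat.Prime 13) := ⟨by norm_num⟩
  have hdvd := dvd_card htr
  rw [hn] at hdvd
  have h13 : 13 ∣ Nat.card D := Dvd.dvd.trans (by norm_num) hdvd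
  obtain ⟨ρ, hρ⟩ := Rep.exists_rep (D := D) hpE hcop hn
  rcases FT.normal_or_psl' (r := 13) (by norm_num) ρ hρ (by norm_num) with h | ⟨-, K, -, ⟨e⟩⟩
  · let P : Sylow 13 D := default
    haveI := h P
    obtain ⟨A, hAn, hAc, hA13⟩ := exists_comm (P : Subgroup D) P.isPGroup' (sylow_ne_bot P h13)
    obtain ⟨K, _, _, _, _, φ, σ, d, j, g1, g2, g3, hinj, hd1, hj1, hK, hE, hfr, hdv, hidx⟩ :=
      exists_field_p htr hpE A hAc
    have hdj : d * j = 6 := by
      rw [hE] at hn
      exact Nat.pow_right_injective (by norm_num : 2 ≤ 3) hn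
    have h1 : 13 ∣ 3 ^ d - 1 := hA13.trans hdv
    have hd6 : d ≤ 6 := Nat.le_of_dvd (by norm_num) ⟨j, hdj.symm⟩
    rcases Nat.lt_or_ge j 2 with hj | hj
    · refine ⟨K, inferInstance, inferInstance, inferInstance, σ, g2, ?_⟩
      have : j = 1 := by omega
      rw [hK, hE, this, mul_one]
    have hd3 : d = 3 := by
      interval_cases d
      · norm_num at h1
      · norm_num at h1
      · rfl
      · omega
      · omega
      · omega
    subst hd3
    have hj2 : j = 2 := by omega
    subst hj2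
    have hC : (Subgroup.centralizer (A : Set D)).index = 1 := by
      rcases (Nat.dvd_prime (by norm_num)).1 hidx with h2 | h2
      · exact h2
      · exfalso
        apply hcop
        rw [← h2]
        exact Subgroup.index_dvd_card _
    have hCt := Subgroup.index_eq_one.1 hC
    have hlin : ∀ (d : D) (c : K) (e : E), d • (c • e) = c • (d • e) := by
      intro d c e
      have h3 : σ d = 1 := by
        rw [g3, hCt]
        trivial
      rw [g2, h3]
      rfl
    obtain ⟨Z, hZn, hZ, hcases⟩ := Dickson.cases 3 hfr hlin hcop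
    have hdZ : Nat.card (D ⧸ Z) ∣ Nat.card D := by
      rw [← Subgroup.index_eq_card]; exact Subgroup.index_dvd_card _
    rcases hcases with ⟨B, hB1, hB2, hB3, -⟩ | ⟨⟨e⟩⟩ | ⟨⟨e⟩⟩ | ⟨⟨e⟩⟩
    · haveI := hB1
      exact isSemi_of_index_two htr hpE B hB2 hB3
    · exfalso
      apply hcop
      refine Dvd.dvd.trans ?_ hdZ
      rw [Nat.card_congr e.toEquiv, nat_card_alternatingGroup, Nat.card_eq_fintype_card, Fintype.card_fin]
      decide
    · exfalso
      apply hcop
      refine Dvd.dvd.trans ?_ hdZ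
      rw [Nat.card_congr e.toEquiv, Nat.card_perm, Nat.card_eq_fintype_card, Fintype.card_fin]
      decide
    · exfalso
      apply hcop
      refine Dvd.dvd.trans ?_ hdZ
      rw [Nat.card_congr e.toEquiv, nat_card_alternatingGroup, Nat.card_eq_fintype_card, Fintype.card_fin]
      decide
  · exfalso
    apply hcop
    have h4 := Cfsg.Agent.ThreePrime.OrderThree.three_dvd_card_psl (ZMod 13)
    rw [← Nat.card_congr e.toEquiv, ← Subgroup.index_eq_card] at h4
    exact (h4.trans (Subgroup.index_dvd_card _)).trans (Subgroup.card_subgroup_dvd_card K)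

/-- The subgroup generated by the elements of order seven. -/
theorem exists_seven {r : ℕ} [hr : Fact r.Prime] (C : Subgroup D) [C.Normal] (M : Subgroup C) [M.Normal]
    (hM : ∀ a ∈ M, ∀ b ∈ M, a * b = b * a) (hi : ¬ r ∣ M.index) (hC : r ∣ Nat.card C) :
    ∃ A : Subgroup D, A.Normal ∧ (∀ a ∈ A, ∀ b ∈ A, a * b = b * a) ∧ r ∣ Nat.card A := by
  let A : Subgroup D := Subgroup.closure {x : D | x ∈ C ∧ x ^ r = 1}
  have hAn : A.Normal := by
    refine ⟨fun n hn g => ?_⟩
    induction hn using Subgroup.closure_induction with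
    | mem x hx =>
      refine Subgroup.subset_closure ⟨Subgroup.Normal.conj_mem ‹_› x hx.1 g, ?_⟩
      rw [conj_pow, hx.2, mul_one, mul_inv_cancel]
    | one => rw [mul_one, mul_inv_cancel]; exact one_mem _
    | mul x y _ _ h1 h2 =>
      have : g * (x * y) * g⁻¹ = (g * x * g⁻¹) * (g * y * g⁻¹) := by group
      rw [this]
      exact mul_mem h1 h2
    | inv x _ h1 =>
      have : g * x⁻¹ * g⁻¹ = (g * x * g⁻¹)⁻¹ := by group
      rw [this]
      exact inv_mem h1
  have hAM : A ≤ M.map C.subtype := by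
    rw [Subgroup.closure_le]
    rintro x ⟨hxC, hx⟩
    refine ⟨⟨x, hxC⟩, ?_, rfl⟩
    have h1 : ((⟨x, hxC⟩ : C) : C ⧸ M) ^ r = 1 := by
      rw [← QuotientGroup.mk_pow, QuotientGroup.eq_one_iff]
      have : (⟨x, hxC⟩ : C) ^ r = 1 := Subtype.ext hx
      rw [this]
      exact one_mem _
    have h2 := orderOf_dvd_of_pow_eq_one h1
    rcases (Nat.dvd_prime hr.out).1 h2 with h3 | h3
    · rw [orderOf_eq_one_iff, QuotientGroup.eq_one_iff] at h3
      exact h3
    · exfalso
      apply hi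
      rw [Subgroup.index_eq_card, ← h3]
      exact orderOf_dvd_natCard _
  refine ⟨A, hAn, ?_, ?_⟩
  · intro a ha b hb
    obtain ⟨a, ha', rfl⟩ := hAM ha
    obtain ⟨b, hb', rfl⟩ := hAM hb
    exact congrArg Subtype.val (hM a ha' b hb')
  · obtain ⟨x, hx⟩ := exists_prime_orderOf_dvd_card' r hC
    have hxA : (x : D) ∈ A := Subgroup.subset_closure ⟨x.2, by
      have : x ^ r = 1 := by rw [← hx, pow_orderOf_eq_one]
      exact congrArg Subtype.val this⟩
    have h4 := orderOf_dvd_natCard (⟨(x : D), hxA⟩ : A)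
    rwa [Subgroup.orderOf_mk, Subgroup.orderOf_coe, hx] at h4

theorem isSemi_five_six (htr : ∀ x y : E, x ≠ 0 → y ≠ 0 → ∃ d : D, d • x = y)
    (hpE : ∀ e : E, 5 • e = 0) (hcop : ¬ 5 ∣ Nat.card D) (hn : Nat.card E = 5 ^ 6) : IsSemi D E := by
  haveI : Fact (Nat.Prime 5) := ⟨by norm_num⟩
  haveI : Fact (Nat.Prime 7) := ⟨by norm_num⟩
  haveI : Fact (Nat.Prime 31) := ⟨by norm_num⟩
  have hdvd := dvd_card htr
  rw [hn] at hdvd
  have h31 : 31 ∣ Nat.card D := Dvd.dvd.trans (by norm_num) hdvd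
  have h7 : 7 ∣ Nat.card D := Dvd.dvd.trans (by norm_num) hdvd
  obtain ⟨ρ, hρ⟩ := Rep.exists_rep (D := D) hpE hcop hn
  let P : Sylow 31 D := default
  haveI := FT.normal_of_lt (r := 31) (by norm_num) ρ hρ (by norm_num) P
  obtain ⟨A, hAn, hAc, hA31⟩ := exists_comm (P : Subgroup D) P.isPGroup' (sylow_ne_bot P h31)
  obtain ⟨K, _, _, _, _, φ, σ, d, j, g1, g2, g3, hinj, hd1, hj1, hK, hE, hfr, hdv, hidx⟩ :=
    exists_field_p htr hpE A hAc
  have hdj : d * j = 6 := by
    rw [hE] at hn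
    exact Nat.pow_right_injective (by norm_num : 2 ≤ 5) hn
  have h1 : 31 ∣ 5 ^ d - 1 := hA31.trans hdv
  have hd6 : d ≤ 6 := Nat.le_of_dvd (by norm_num) ⟨j, hdj.symm⟩
  rcases Nat.lt_or_ge j 2 with hj | hj
  · refine ⟨K, inferInstance, inferInstance, inferInstance, σ, g2, ?_⟩
    have : j = 1 := by omega
    rw [hK, hE, this, mul_one]
  have hd3 : d = 3 := by
    interval_cases d
    · norm_num at h1
    · norm_num at h1
    · rfl
    · omega
    · omega
    · omega
  subst hd3
  have hj2 : j = 2 := by omega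
  subst hj2
  set C := Subgroup.centralizer (A : Set D) with hC
  have hlin : ∀ (d : C) (c : K) (e : E), d • (c • e) = c • (d • e) := by
    intro d c e
    have h3 : σ (d : D) = 1 := by
      rw [g3]
      exact d.2
    change (d : D) • (c • e) = c • ((d : D) • e)
    rw [g2, h3]
    rfl
  have hcC : Nat.card C * C.index = Nat.card D := C.card_mul_index
  have hcopC : ¬ 5 ∣ Nat.card C := fun h => hcop (h.trans (Subgroup.card_subgroup_dvd_card C))
  have h7C : 7 ∣ Nat.card C := by
    rw [← hcC] at h7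
    rcases (Nat.Prime.dvd_mul (by norm_num)).1 h7 with h8 | h8
    · exact h8
    · have := h8.trans hidx
      norm_num at this
  obtain ⟨Z, hZn, hZ, hcases⟩ := Dickson.cases (D := C) (E := E) 5 hfr hlin hcopC
  have hfin : ∀ M : Subgroup C, M.Normal → (∀ a ∈ M, ∀ b ∈ M, a * b = b * a) → ¬ 7 ∣ M.index → IsSemi D E := by
    intro M hMn hM hMi
    haveI := hMn
    obtain ⟨A', hA'n, hA'c, hA'7⟩ := exists_seven C M hM hMi h7C
    haveI := hA'n
    refine isSemi_of_prime_dvd htr hpE hn A' hA'c (r := 7) ?_ hA'7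
    intro i hi1 hi6
    interval_cases i <;> norm_num
  have hZc : ∀ a ∈ Z, ∀ b ∈ Z, a * b = b * a := by
    intro a ha b hb
    obtain ⟨c, hc⟩ := (hZ a).1 ha
    apply FaithfulSMul.eq_of_smul_eq_smul (α := E)
    intro e
    rw [mul_smul, mul_smul, hc, hc, hlin]
  rcases hcases with ⟨B, hB1, hB2, hB3, -⟩ | ⟨⟨e⟩⟩ | ⟨⟨e⟩⟩ | ⟨⟨e⟩⟩
  · refine hfin B hB1 hB2 (fun h => ?_)
    have := h.trans hB3
    norm_num at this
  · refine hfin Z hZn hZc ?_
    rw [Subgroup.index_eq_card, Nat.card_congr e.toEquiv, nat_card_alternatingGroup, Nat.card_eq_fintype_card,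
      Fintype.card_fin]
    decide
  · refine hfin Z hZn hZc ?_
    rw [Subgroup.index_eq_card, Nat.card_congr e.toEquiv, Nat.card_perm, Nat.card_eq_fintype_card, Fintype.card_fin]
    decide
  · refine hfin Z hZn hZc ?_
    rw [Subgroup.index_eq_card, Nat.card_congr e.toEquiv, nat_card_alternatingGroup, Nat.card_eq_fintype_card,
      Fintype.card_fin]
    decide

/-- **Coprime transitive linear groups.** -/
theorem trichotomy (htr : ∀ x y : E, x ≠ 0 → y ≠ 0 → ∃ d : D, d • x = y)
    {p : ℕ} [hp : Fact p.Prime] (hpE : ∀ e : E, p • e = 0) (hcop : ¬ p ∣ Nat.card D)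
    {n : ℕ} (hn : Nat.card E = p ^ n) : IsSemi D E ∨ n = 2 ∨ (p = 3 ∧ n = 4) := by
  have hp2 := hp.out.two_le
  have hE1 : 1 < Nat.card E := Finite.one_lt_card
  rcases Nat.lt_or_ge n 3 with h3 | h3
  · have hn0 : n ≠ 0 := by
      rintro rfl
      rw [hn, pow_zero] at hE1
      omega
    rcases Nat.lt_or_ge n 2 with h2 | h2
    · left
      have hn1 : n = 1 := by omega
      subst hn1
      obtain ⟨K, _, _, _, _, φ, σ, d, j, g1, g2, g3, hinj, hd1, hj1, hK, hE, hfr, hdv, hidx⟩ :=
        exists_field_p htr hpE (⊥ : Subgroup D) (by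
          intro a ha b hb
          rw [Subgroup.mem_bot] at ha hb
          rw [ha, hb])
      refine ⟨K, inferInstance, inferInstance, inferInstance, σ, g2, ?_⟩
      have hdj : d * j = 1 := by
        rw [hE] at hn
        exact Nat.pow_right_injective hp2 hn
      have : j = 1 := Nat.eq_one_of_mul_eq_one_left hdj
      rw [hK, hE, this, mul_one]
    · right; left; omega
  by_cases hpp : p = 2
  · left
    subst hpp
    refine isSemi_of_odd htr hpE ?_
    rw [← Nat.not_even_iff_odd, even_iff_two_dvd]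
    exact hcop
  by_cases h34 : p = 3 ∧ n = 4
  · exact Or.inr (Or.inr h34)
  by_cases h36 : p = 3 ∧ n = 6
  · left
    obtain ⟨rfl, rfl⟩ := h36
    exact isSemi_three_six htr hpE hcop hn
  by_cases h56 : p = 5 ∧ n = 6
  · left
    obtain ⟨rfl, rfl⟩ := h56
    exact isSemi_five_six htr hpE hcop hn
  left
  obtain ⟨r, hr, hrn, hz, hl⟩ := Cfsg.Agent.S3430.result p n hp2 (by omega) (fun h => by omega)
    (fun h => hpp h.1) (fun h => by
      rcases h with ⟨h1, h2 | h2⟩
      · exact h34 ⟨h1, h2⟩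
      · exact h36 ⟨h1, h2⟩) h56
  haveI : Fact r.Prime := ⟨hr⟩
  exact isSemi_of_prime htr hpE hcop hn h3 hrn hz hl

end Cfsg.Agent.H717.Coprime
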