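import Cfsg.Agent.H671.H5Facts
import Cfsg.Agent.S4774
import Cfsg.Agent.S4812
import Cfsg.Agent.ClassicalGeometry.PSL2Basic
import Cfsg.Agent.H352.Order120
import Cfsg.Agent.TwoFusion.SLTwoFacts
import Mathlib.Combinatorics.SimpleGraph.Metric

/-!
# S4772 and S4998 from the facts on the degree graphs of the simple groups
-/

set_option autoImplicit false

namespace Cfsg.Agent.H717.Deg

open Cfsg.Agent.H671.H5

universe u

/-- A graph with an isolated vertex and another vertex is not preconnected. -/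
theorem not_preconnected {V : Type*} (G : SimpleGraph V) (a b : V) (hab : a ≠ b) (ha : ∀ c, ¬ G.Adj a c) :
    ¬ G.Preconnected := by
  intro h
  obtain ⟨w⟩ := h a b
  cases w with
  | nil => exact hab rfl
  | cons h _ => exact ha _ h

/-- Connected graphs without three pairwise non-adjacent vertices have diameter at most three. -/
theorem exists_walk_le_three {V : Type*} (G : SimpleGraph V) (hc : G.Connected)
    (h3 : ∀ a b c : V, a ≠ b → b ≠ c → a ≠ c → G.Adj a b ∨ G.Adj b c ∨ G.Adj a c) (u v : V) :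
    ∃ w : G.Walk u v, w.length ≤ 3 := by
  obtain ⟨w, hw⟩ := hc.exists_walk_length_eq_dist u v
  refine ⟨w, ?_⟩
  by_contra hlt
  push Not at hlt
  have h1 : ∀ i, i ≤ w.length → G.dist u (w.getVert i) ≤ i := by
    intro i hi
    have := SimpleGraph.dist_le (w.take i)
    rwa [SimpleGraph.Walk.take_length, min_eq_left hi] at this
  have h2 : ∀ i, i ≤ w.length → G.dist (w.getVert i) v ≤ w.length - i := by
    intro i hi
    have := SimpleGraph.dist_le (w.drop i)
    rwa [SimpleGraph.Walk.drop_length] at this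
  have ht := fun a b c : V => hc.dist_triangle (u := a) (v := b) (w := c)
  have h4 : 4 ≤ w.length := hlt
  have a1 := h1 2 (by omega)
  have a2 := h2 2 (by omega)
  have a3 := h1 4 h4
  have a4 := h2 4 h4
  have b1 := ht u (w.getVert 2) v
  have b2 := ht u (w.getVert 4) v
  have b3 := ht u (w.getVert 2) (w.getVert 4)
  have hadj : ∀ a b : V, 2 ≤ G.dist a b → a ≠ b ∧ ¬ G.Adj a b := by
    intro a b hab
    refine ⟨?_, ?_⟩
    · rintro rfl
      rw [SimpleGraph.dist_self] at hab
      omega
    · intro h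
      rw [SimpleGraph.dist_eq_one_iff_adj.2 h] at hab
      omega
  have c1 := hadj u (w.getVert 2) (by omega)
  have c2 := hadj (w.getVert 2) (w.getVert 4) (by omega)
  have c3 := hadj u (w.getVert 4) (by omega)
  rcases h3 _ _ _ c1.1 c2.1 c3.1 with h | h | h
  · exact c1.2 h
  · exact c2.2 h
  · exact c3.2 h

theorem not_comm_of_card_sixty {S : Type*} [Group S] [IsSimpleGroup S] (hc : Nat.card S = 60) :
    ¬ ∀ a b : S, a * b = b * a := by
  intro h
  let _ : CommGroup S := { (inferInstance : Group S) with mul_comm := h }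
  have : Finite S := Nat.finite_of_card_ne_zero (by rw [hc]; norm_num)
  have h2 := IsSimpleGroup.prime_card (α := S)
  rw [hc] at h2
  exact absurd h2 (by norm_num)

/-- A nonabelian simple group isomorphic to `PSL(2,5)` is isomorphic to `PSL(2,4)`. -/
theorem equiv_psl_four {S : Type u} [Group S] [Finite S] (hS : IsSimpleGroup S) (hna : ¬ IsMulCommutative S)
    (F : Type) [Field F] [Fintype F] (h5 : Fintype.card F = 5)
    (e : S ≃* Matrix.ProjectiveSpecialLinearGroup (Fin 2) F) :
    Nonempty (S ≃* Matrix.ProjectiveSpecialLinearGroup (Fin 2) (GaloisField 2 2)) := by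
  classical
  have : Fintype (GaloisField 2 2) := Fintype.ofFinite _
  have h4 : Fintype.card (GaloisField 2 2) = 4 := by
    rw [← Nat.card_eq_fintype_card, GaloisField.card 2 2 (by norm_num)]
    norm_num
  -- `S`
  have hc : Nat.card S = 60 := by
    have h1 := Cfsg.Agent.ClassicalGeometry.PSL2Basic.card_PSL2_odd (F := F) (by rw [h5]; decide)
    rw [h5] at h1
    rw [Nat.card_congr e.toEquiv]
    omega
  have hns : ¬ Group.IsSolvable S := by
    intro h
    exact hna ⟨⟨IsSimpleGroup.comm_iff_isSolvable.2 h⟩⟩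
  obtain ⟨e1⟩ := Cfsg.Agent.H352.Order120.alt5_of_card_60 hc hns
  -- `PSL(2,4)`
  have hc' : Nat.card (Matrix.ProjectiveSpecialLinearGroup (Fin 2) (GaloisField 2 2)) = 60 := by
    have h1 := Cfsg.Agent.ClassicalGeometry.PSL2Basic.card_PSL2_even (F := GaloisField 2 2) (by rw [h4]; decide)
    rw [h4] at h1
    rw [h1]
    norm_num
  have hsi : IsSimpleGroup (Matrix.ProjectiveSpecialLinearGroup (Fin 2) (GaloisField 2 2)) :=
    Cfsg.Agent.TwoFusion.SLTwoFacts.isSimpleGroup_psl (by rw [h4]; norm_num)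
  have hns' : ¬ Group.IsSolvable (Matrix.ProjectiveSpecialLinearGroup (Fin 2) (GaloisField 2 2)) := by
    intro h
    exact not_comm_of_card_sixty hc' (IsSimpleGroup.comm_iff_isSolvable.2 h)
  obtain ⟨e2⟩ := Cfsg.Agent.H352.Order120.alt5_of_card_60 hc' hns'
  exact ⟨e1.trans e2.symm⟩

/-- The degree graph of `PSL(2,F)` is disconnected. -/
theorem not_preconnected_of_isL2 {S : Type u} [Group S] [Finite S] (hS : IsSimpleGroup S)
    (hna : ¬ IsMulCommutative S) (h : IsL2 S) :
    ¬ ((Cfsg.degreeGraph S).induce (Cfsg.degreePrimes S)).Preconnected := by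
  classical
  -- characteristic two
  have heven : ∀ (F : Type) [Field F] [Fintype F] [CharP F 2], 4 ≤ Fintype.card F →
      Nonempty (S ≃* Matrix.ProjectiveSpecialLinearGroup (Fin 2) F) →
      ¬ ((Cfsg.degreeGraph S).induce (Cfsg.degreePrimes S)).Preconnected := by
    intro F _ _ _ h4 he
    obtain ⟨h1, h2⟩ := Cfsg.Agent.S4812.result F (Fintype.card F) rfl h4 (S := S) (Or.inl he)
    set q := Fintype.card F with hq
    have heq : 2 ∣ q := by
      obtain ⟨⟨k, hk⟩, -, hk2⟩ := FiniteField.card F 2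
      rw [hq, hk2]
      exact dvd_pow_self 2 hk.ne'
    obtain ⟨r, hr, hrq⟩ := Nat.exists_prime_and_dvd (show q + 1 ≠ 1 by omega)
    have hr2 : r ≠ 2 := by
      rintro rfl
      omega
    have hq1 : q ^ 2 - 1 = (q + 1) * (q - 1) := by
      have := Nat.sq_sub_sq q 1
      simpa using this
    have hm2 : 2 ∈ Cfsg.degreePrimes S := by
      rw [h1]
      exact ⟨Nat.prime_two, heq.mul_right _⟩
    have hmr : r ∈ Cfsg.degreePrimes S := by
      rw [h1]
      refine ⟨hr, ?_⟩
      rw [hq1]
      exact (hrq.mul_right _).mul_left _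
    refine not_preconnected _ ⟨2, hm2⟩ ⟨r, hmr⟩ (fun h => hr2 (congrArg Subtype.val h).symm) ?_
    rintro ⟨s, hs⟩ hadj
    have h3 : (Cfsg.degreeGraph S).Adj 2 s := hadj
    rw [h2] at h3
    obtain ⟨-, -, -, h4 | h4⟩ := h3
    · have := h4.1
      omega
    · have := h4.1
      omega
  obtain ⟨F, _, _, h4, ⟨e⟩⟩ := h
  obtain ⟨t, ht⟩ := CharP.exists F
  have htp : Fact t.Prime := ⟨CharP.char_is_prime F t⟩
  by_cases ht2 : t = 2
  · subst ht2
    exact heven F h4 ⟨e⟩
  by_cases h5 : Fintype.card F = 5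
  · have : Fintype (GaloisField 2 2) := Fintype.ofFinite _
    refine heven (GaloisField 2 2) ?_ (equiv_psl_four hS hna F h5 e)
    rw [← Nat.card_eq_fintype_card, GaloisField.card 2 2 (by norm_num)]
    norm_num
  · have hq5 : 5 < Fintype.card F := by
      obtain ⟨⟨k, hk⟩, -, hk2⟩ := FiniteField.card F t
      have h6 : Fintype.card F ≠ 4 := by
        intro h6
        rw [h6] at hk2
        have h7 : t ∣ 4 := by
          rw [hk2]
          exact dvd_pow_self t hk.ne'
        have h8 : t ∣ 2 ^ 2 := h7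
        exact ht2 ((Nat.prime_dvd_prime_iff_eq htp.out Nat.prime_two).1 (htp.out.dvd_of_dvd_pow h8))
      omega
    obtain ⟨h1, h2⟩ := Cfsg.Agent.S4774.result F t ht2 (Fintype.card F) rfl hq5 (S := S) (Or.inl ⟨e⟩)
    set q := Fintype.card F with hq
    have htq : t ∣ q := by
      obtain ⟨⟨k, hk⟩, -, hk2⟩ := FiniteField.card F t
      rw [hq, hk2]
      exact dvd_pow_self t hk.ne'
    have hnt : ¬ t ∣ q ^ 2 - 1 := by
      intro h
      have h3 : t ∣ q ^ 2 := htq.trans (dvd_pow_self q two_ne_zero)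
      have h4 : q ^ 2 = (q ^ 2 - 1) + 1 := by
        have : 1 ≤ q ^ 2 := Nat.one_le_pow _ _ (by omega)
        omega
      rw [h4] at h3
      exact htp.out.one_lt.ne' (Nat.dvd_one.1 ((Nat.dvd_add_right h).1 h3))
    have h2q : 2 ∣ q ^ 2 - 1 := by
      have hodd : Odd q := by
        obtain ⟨⟨k, hk⟩, -, hk2⟩ := FiniteField.card F t
        rw [hq, hk2]
        exact (htp.out.odd_of_ne_two ht2).pow
      obtain ⟨k, hk⟩ := hodd
      rw [hk]
      refine ⟨2 * k ^ 2 + 2 * k, ?_⟩
      have : (2 * k + 1) ^ 2 = 2 * (2 * k ^ 2 + 2 * k) + 1 := by ring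
      omega
    have hmt : t ∈ Cfsg.degreePrimes S := by
      rw [h1]
      exact ⟨htp.out, htq.mul_right _⟩
    have hm2 : 2 ∈ Cfsg.degreePrimes S := by
      rw [h1]
      exact ⟨Nat.prime_two, h2q.mul_left _⟩
    refine not_preconnected _ ⟨t, hmt⟩ ⟨2, hm2⟩ (fun h => ht2 (congrArg Subtype.val h)) ?_
    rintro ⟨s, hs⟩ hadj
    have h3 : (Cfsg.degreeGraph S).Adj t s := hadj
    rw [h2] at h3
    exact hnt h3.2.2.2.1

/-- **S4772** from the fact on connectedness. -/
theorem S4772_of (hC : FactConn.{u}) {G : Type u} [Group G] [Finite G] (hG : IsSimpleGroup G)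
    (hna : ¬ IsMulCommutative G) :
    ¬ ((Cfsg.degreeGraph G).induce (Cfsg.degreePrimes G)).Preconnected ↔
      ∃ (F : Type) (_ : Field F) (_ : Fintype F), 4 ≤ Fintype.card F ∧
        Nonempty (G ≃* Matrix.ProjectiveSpecialLinearGroup (Fin 2) F) := by
  constructor
  · intro h
    by_contra hL
    exact h (hC G hna hL).preconnected
  · intro h
    exact not_preconnected_of_isL2 hG hna h

/-- **S4998** from the fact on independent triples. -/
theorem S4998_of (hI : FactInd.{u}) {G : Type u} [Group G] [Finite G] (hS : IsSimpleGroup G)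
    (hna : ¬ IsMulCommutative G)
    (hconn : ((Cfsg.degreeGraph G).induce (Cfsg.degreePrimes G)).Connected) (u v : ↥(Cfsg.degreePrimes G)) :
    ∃ w : ((Cfsg.degreeGraph G).induce (Cfsg.degreePrimes G)).Walk u v, w.length ≤ 3 := by
  have hL : ¬ IsL2 G := fun h => not_preconnected_of_isL2 hS hna h hconn.preconnected
  refine exists_walk_le_three _ hconn ?_ u v
  rintro ⟨a, ha⟩ ⟨b, hb⟩ ⟨c, hc⟩ hab hbc hac
  exact hI G hna hL a ha b hb c hc (fun h => hab (Subtype.ext h)) (fun h => hbc (Subtype.ext h))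
    (fun h => hac (Subtype.ext h))

end Cfsg.Agent.H717.Deg
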