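import Mathlib
import Cfsg.Agent.H717.Coprime

/-!
# Coprime transitive linear groups on 81 vectors: first reductions
-/

set_option autoImplicit false
set_option linter.style.haveILetI false
set_option linter.unusedSectionVars false

namespace Cfsg.Agent.H717.Eighty

open Cfsg.Agent.H717.Semi Cfsg.Agent.H717.FieldP Cfsg.Agent.H717.Zsig Cfsg.Agent.H717.Plane Cfsg.Agent.H717.Coprime

universe u v

variable {D : Type v} {E : Type u} [Group D] [Finite D] [AddCommGroup E] [Finite E] [Nontrivial E]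
  [DistribMulAction D E] [FaithfulSMul D E]

theorem not_thirteen (htr : ∀ x y : E, x ≠ 0 → y ≠ 0 → ∃ d : D, d • x = y)
    (hpE : ∀ e : E, 3 • e = 0) (hcop : ¬ 3 ∣ Nat.card D) (hn : Nat.card E = 3 ^ 4) : ¬ 13 ∣ Nat.card D := by
  intro h13
  haveI : Fact (Nat.Prime 3) := ⟨by norm_num⟩
  haveI : Fact (Nat.Prime 13) := ⟨by norm_num⟩
  obtain ⟨ρ, hρ⟩ := Rep.exists_rep (D := D) hpE hcop hn
  let P : Sylow 13 D := default
  haveI := FT.normal_of_lt (r := 13) (by norm_num) ρ hρ (by norm_num) P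
  obtain ⟨A, hAn, hAc, hA13⟩ := exists_comm (P : Subgroup D) P.isPGroup' (sylow_ne_bot P h13)
  obtain ⟨K, _, _, _, _, φ, σ, d, j, g1, g2, g3, hinj, hd1, hj1, hK, hE, hfr, hdv, hidx⟩ :=
    exists_field_p htr hpE A hAc
  have hdj : d * j = 4 := by
    rw [hE] at hn
    exact Nat.pow_right_injective (by norm_num : 2 ≤ 3) hn
  have h1 : 13 ∣ 3 ^ d - 1 := hA13.trans hdv
  have hd6 : d ≤ 4 := Nat.le_of_dvd (by norm_num) ⟨j, hdj.symm⟩
  interval_cases d
  · norm_num at h1
  · norm_num at h1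
  · omega
  · norm_num at h1

theorem card_dvd_two (htr : ∀ x y : E, x ≠ 0 → y ≠ 0 → ∃ d : D, d • x = y)
    (hpE : ∀ e : E, 3 • e = 0) (hcop : ¬ 3 ∣ Nat.card D) (hn : Nat.card E = 3 ^ 4) (hns : ¬ IsSemi D E)
    (A : Subgroup D) (hAn : A.Normal) (hAc : ∀ a ∈ A, ∀ b ∈ A, a * b = b * a) : Nat.card A ∣ 2 := by
  haveI : Fact (Nat.Prime 3) := ⟨by norm_num⟩
  haveI : Fact (Nat.Prime 5) := ⟨by norm_num⟩
  have hdvd := dvd_card htr
  rw [hn] at hdvd
  have h5 : 5 ∣ Nat.card D := Dvd.dvd.trans (by norm_num) hdvd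
  obtain ⟨K, _, _, _, _, φ, σ, d, j, g1, g2, g3, hinj, hd1, hj1, hK, hE, hfr, hdv, hidx⟩ :=
    exists_field_p htr hpE A hAc
  have hdj : d * j = 4 := by
    rw [hE] at hn
    exact Nat.pow_right_injective (by norm_num : 2 ≤ 3) hn
  have hd4 : d ≤ 4 := Nat.le_of_dvd (by norm_num) ⟨j, hdj.symm⟩
  have hj2 : 2 ≤ j := by
    by_contra hlt
    apply hns
    refine ⟨K, inferInstance, inferInstance, inferInstance, σ, g2, ?_⟩
    have : j = 1 := by omega
    rw [hK, hE, this, mul_one]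
  have hd : d = 1 ∨ d = 2 := by
    have : d * 2 ≤ d * j := Nat.mul_le_mul_left d hj2
    omega
  rcases hd with rfl | rfl
  · simpa using hdv
  exfalso
  have hj2' : j = 2 := by omega
  subst hj2'
  set C := Subgroup.centralizer (A : Set D) with hC
  have hlin : ∀ (d : C) (c : K) (e : E), d • (c • e) = c • (d • e) := by
    intro d c e
    have h3 : σ (d : D) = 1 := by
      rw [g3]
      exact d.2
    change (d : D) • (c • e) = c • ((d : D) • e)
    rw [g2, h3]
    rfl
  have hcC : Nat.card C * C.index = Nat.card D := C.card_mul_index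
  have hcopC : ¬ 3 ∣ Nat.card C := fun h => hcop (h.trans (Subgroup.card_subgroup_dvd_card C))
  have h5C : 5 ∣ Nat.card C := by
    rw [← hcC] at h5
    rcases (Nat.Prime.dvd_mul (by norm_num)).1 h5 with h8 | h8
    · exact h8
    · have := h8.trans hidx
      norm_num at this
  obtain ⟨Z, hZn, hZ, hcases⟩ := Dickson.cases (D := C) (E := E) 3 hfr hlin hcopC
  have hdZ : Nat.card (C ⧸ Z) ∣ Nat.card C := by
    rw [← Subgroup.index_eq_card]; exact Subgroup.index_dvd_card _
  rcases hcases with ⟨B, hB1, hB2, hB3, -⟩ | ⟨⟨e⟩⟩ | ⟨⟨e⟩⟩ | ⟨⟨e⟩⟩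
  · haveI := hB1
    obtain ⟨A', hA'n, hA'c, hA'5⟩ := exists_seven (r := 5) C B hB2 (fun h => by
      have := h.trans hB3
      norm_num at this) h5C
    haveI := hA'n
    apply hns
    refine isSemi_of_prime_dvd htr hpE hn A' hA'c (r := 5) ?_ hA'5
    intro i hi1 hi6
    interval_cases i <;> norm_num
  · apply hcopC
    refine Dvd.dvd.trans ?_ hdZ
    rw [Nat.card_congr e.toEquiv, nat_card_alternatingGroup, Nat.card_eq_fintype_card, Fintype.card_fin]
    decide
  · apply hcopC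
    refine Dvd.dvd.trans ?_ hdZ
    rw [Nat.card_congr e.toEquiv, Nat.card_perm, Nat.card_eq_fintype_card, Fintype.card_fin]
    decide
  · apply hcopC
    refine Dvd.dvd.trans ?_ hdZ
    rw [Nat.card_congr e.toEquiv, nat_card_alternatingGroup, Nat.card_eq_fintype_card, Fintype.card_fin]
    decide

end Cfsg.Agent.H717.Eighty
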