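import Mathlib
import Cfsg.Agent.H717.FieldOf
import Cfsg.Agent.H717.Semi

/-!
# Normal abelian subgroups of transitive linear groups over a prime field

* `exists_field_p` : the field of a commutative normal subgroup, with numbers;
* `isSemi_of_centralizer_le` : a self-centralizing commutative normal subgroup makes the group semilinear;
* `isSemi_of_prime_dvd` : so does a commutative normal subgroup whose order is divisible by a primitive
  prime divisor of `p ^ n - 1`.
-/

set_option autoImplicit false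
set_option linter.style.haveILetI false
set_option linter.unusedSectionVars false

namespace Cfsg.Agent.H717.FieldP

open Cfsg.Agent.H717.Semi

universe u v

variable {D : Type v} {E : Type u} [Group D] [Finite D] [AddCommGroup E] [Finite E] [Nontrivial E]
  [DistribMulAction D E] [FaithfulSMul D E]

theorem exists_field_p (htr : ∀ x y : E, x ≠ 0 → y ≠ 0 → ∃ d : D, d • x = y)
    {p : ℕ} [hp : Fact p.Prime] (hpE : ∀ e : E, p • e = 0)
    (A : Subgroup D) [A.Normal] (hA : ∀ a ∈ A, ∀ b ∈ A, a * b = b * a) :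
    ∃ (K : Type u) (_ : Field K) (_ : Finite K) (_ : Module K E) (_ : CharP K p) (φ : A →* Kˣ) (σ : D →* (K ≃+* K))
      (d j : ℕ),
      (∀ (a : A) (e : E), ((φ a : Kˣ) : K) • e = (a : D) • e) ∧
      (∀ (d : D) (k : K) (e : E), d • (k • e) = (σ d k) • (d • e)) ∧
      (∀ d : D, σ d = 1 ↔ d ∈ Subgroup.centralizer (A : Set D)) ∧
      Function.Injective φ ∧ 1 ≤ d ∧ 1 ≤ j ∧ Nat.card K = p ^ d ∧ Nat.card E = p ^ (d * j) ∧
      Module.finrank K E = j ∧ Nat.card A ∣ p ^ d - 1 ∧ (Subgroup.centralizer (A : Set D)).index ∣ d := by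
  obtain ⟨K, _, _, _, φ, σ, h1, h2, h3⟩ := FieldOf.exists_field htr A hA
  obtain ⟨x₀, hx₀⟩ := exists_ne (0 : E)
  have hpK : (p : K) = 0 := by
    have h4 : (p : K) • x₀ = 0 := by rw [Nat.cast_smul_eq_nsmul]; exact hpE x₀
    rcases smul_eq_zero.1 h4 with h5 | h5
    · exact h5
    · exact absurd h5 hx₀
  haveI hchar : CharP K p := by
    obtain ⟨r, hr⟩ := CharP.exists K
    have h6 : r ∣ p := (CharP.cast_eq_zero_iff K r p).1 hpK
    rcases (Nat.dvd_prime hp.out).1 h6 with h7 | h7
    · subst h7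
      have h8 := CharP.cast_eq_zero K 1
      rw [Nat.cast_one] at h8
      exact absurd h8 one_ne_zero
    · rwa [h7] at hr
  haveI := Fintype.ofFinite K
  obtain ⟨d, -, hd⟩ := FiniteField.card K p
  rw [← Nat.card_eq_fintype_card] at hd
  haveI : Module.Finite K E := Module.Finite.of_finite
  have hE := Module.natCard_eq_pow_finrank (K := K) (V := E)
  have hj : 1 ≤ Module.finrank K E := Module.finrank_pos
  have hinj : Function.Injective φ := by
    intro a b hab
    apply Subtype.ext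
    apply FaithfulSMul.eq_of_smul_eq_smul (α := E)
    intro e
    rw [← h1, ← h1, hab]
  refine ⟨K, inferInstance, inferInstance, inferInstance, hchar, φ, σ, d, Module.finrank K E, h1, h2, h3, hinj, d.2,
    hj, hd, ?_, rfl, ?_, ?_⟩
  · rw [hE, hd, pow_mul]
  · have h8 : Nat.card A = Nat.card φ.range := Nat.card_congr (MonoidHom.ofInjective hinj).toEquiv
    rw [h8, ← hd, ← Nat.card_units]
    exact Subgroup.card_subgroup_dvd_card _
  · haveI : Finite (K ≃+* K) := Finite.of_injective (fun f : K ≃+* K => (f : K → K)) DFunLike.coe_injective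
    have h9 : σ.ker = Subgroup.centralizer (A : Set D) := by
      ext x
      rw [MonoidHom.mem_ker, h3]
    have h10 := card_fixed (K := K) σ.range
    rw [← Subgroup.index_ker, h9, hd] at h10
    have h11 : Nat.card (FixedPoints.subfield σ.range K) ∣ p ^ (d : ℕ) := by
      rw [← h10]
      refine dvd_pow_self _ ?_
      have := Subgroup.index_ne_zero_of_finite (H := Subgroup.centralizer (A : Set D))
      exact this
    obtain ⟨i, -, hi⟩ := (Nat.dvd_prime_pow hp.out).1 h11
    rw [hi, ← pow_mul] at h10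
    have h12 := Nat.pow_right_injective hp.out.two_le h10
    exact ⟨i, by rw [← h12, mul_comm]⟩

theorem isSemi_of_centralizer_le (htr : ∀ x y : E, x ≠ 0 → y ≠ 0 → ∃ d : D, d • x = y)
    {p : ℕ} [hp : Fact p.Prime] (hpE : ∀ e : E, p • e = 0)
    (A : Subgroup D) [A.Normal] (hA : ∀ a ∈ A, ∀ b ∈ A, a * b = b * a)
    (hC : Subgroup.centralizer (A : Set D) ≤ A) : IsSemi D E := by
  obtain ⟨K, _, _, _, _, φ, σ, d, j, h1, h2, h3, hinj, hd1, hj1, hK, hE, hfr, hdvd, hidx⟩ :=
    exists_field_p htr hpE A hA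
  refine ⟨K, inferInstance, inferInstance, inferInstance, σ, h2, ?_⟩
  obtain ⟨x₀, hx₀⟩ := exists_ne (0 : E)
  have hp2 := hp.out.two_le
  have hpd : 2 ≤ p ^ d := hp2.trans (Nat.le_self_pow (by omega) p)
  have e1 : Nat.card A ≤ p ^ d - 1 := Nat.le_of_dvd (by omega) hdvd
  have e2 : (Subgroup.centralizer (A : Set D)).index ≤ d := Nat.le_of_dvd (by omega) hidx
  have e3 : Nat.card (Subgroup.centralizer (A : Set D)) ≤ Nat.card A := Subgroup.card_le_of_le hC
  have e4 := (Subgroup.centralizer (A : Set D)).card_mul_index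
  have e5 : Nat.card D ≤ (p ^ d - 1) * d := by
    rw [← e4]
    exact Nat.mul_le_mul (e3.trans e1) e2
  have e6 := card_eq htr hx₀
  have e7 : 1 ≤ Nat.card (MulAction.stabilizer D x₀) := Nat.card_pos
  have e8 : Nat.card E - 1 ≤ Nat.card D := by
    rw [e6]; exact Nat.le_mul_of_pos_right _ e7
  have hj : j = 1 := by
    by_contra hne
    have hj2 : 2 ≤ j := by omega
    have e9 : p ^ (d * 2) ≤ p ^ (d * j) := Nat.pow_le_pow_right (by omega) (Nat.mul_le_mul_left d hj2)
    have e10 : d < p ^ d := Nat.lt_pow_self (by omega)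
    rw [pow_mul, sq] at e9
    rw [hE] at e8
    obtain ⟨t, ht⟩ : ∃ t, p ^ d = t + 1 := ⟨p ^ d - 1, by omega⟩
    rw [ht] at e9 e5 e10
    rw [Nat.add_sub_cancel] at e5
    have e11 : (t + 1) * (t + 1) - 1 ≤ t * d := (Nat.sub_le_sub_right e9 1).trans (e8.trans e5)
    have e12 : (t + 1) * (t + 1) ≤ t * d + 1 := by omega
    have e13 : t * d ≤ t * t := Nat.mul_le_mul_left t (by omega)
    nlinarith
  rw [hK, hE, hj, mul_one]

theorem isSemi_of_prime_dvd (htr : ∀ x y : E, x ≠ 0 → y ≠ 0 → ∃ d : D, d • x = y)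
    {p : ℕ} [hp : Fact p.Prime] (hpE : ∀ e : E, p • e = 0) {n : ℕ} (hn : Nat.card E = p ^ n)
    (A : Subgroup D) [A.Normal] (hA : ∀ a ∈ A, ∀ b ∈ A, a * b = b * a) {r : ℕ}
    (hr : ∀ i : ℕ, 1 ≤ i → i < n → ¬ r ∣ p ^ i - 1) (hrA : r ∣ Nat.card A) : IsSemi D E := by
  obtain ⟨K, _, _, _, _, φ, σ, d, j, h1, h2, h3, hinj, hd1, hj1, hK, hE, hfr, hdvd, hidx⟩ :=
    exists_field_p htr hpE A hA
  refine ⟨K, inferInstance, inferInstance, inferInstance, σ, h2, ?_⟩
  have h4 : d * j = n := by
    rw [hE] at hn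
    exact Nat.pow_right_injective hp.out.two_le hn
  have h5 : ¬ d < n := fun h => hr d hd1 h (hrA.trans hdvd)
  have h6 : d ≤ d * j := Nat.le_mul_of_pos_right d hj1
  have h7 : d = n := by omega
  rw [hK, hn, h7]

/-- A nontrivial normal `r`-subgroup, `r` a primitive prime divisor, makes the group semilinear. -/
theorem isSemi_of_isPGroup (htr : ∀ x y : E, x ≠ 0 → y ≠ 0 → ∃ d : D, d • x = y)
    {p : ℕ} [hp : Fact p.Prime] (hpE : ∀ e : E, p • e = 0) {n : ℕ} (hn : Nat.card E = p ^ n)
    {r : ℕ} [hr' : Fact r.Prime] (hr : ∀ i : ℕ, 1 ≤ i → i < n → ¬ r ∣ p ^ i - 1)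
    (N : Subgroup D) [N.Normal] (hN : IsPGroup r N) (hN1 : N ≠ ⊥) : IsSemi D E := by
  haveI : Nontrivial N := (Subgroup.nontrivial_iff_ne_bot N).2 hN1
  haveI : Nontrivial (Subgroup.center N) := hN.center_nontrivial
  let A : Subgroup D := (Subgroup.center N).map N.subtype
  haveI : A.Normal := inferInstance
  have hA : ∀ a ∈ A, ∀ b ∈ A, a * b = b * a := by
    rintro _ ⟨a, ha, rfl⟩ _ ⟨b, hb, rfl⟩
    have := (Subgroup.mem_center_iff.1 hb) a
    exact congrArg Subtype.val this
  have hcard : Nat.card A = Nat.card (Subgroup.center N) :=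
    (Subgroup.card_map_of_injective N.subtype_injective)
  refine isSemi_of_prime_dvd htr hpE hn A hA hr ?_
  rw [hcard]
  have h2 : IsPGroup r (Subgroup.center N) := hN.to_subgroup _
  obtain ⟨k, hk⟩ := IsPGroup.iff_card.1 h2
  have h3 : 1 < Nat.card (Subgroup.center N) := Finite.one_lt_card
  rw [hk] at h3 ⊢
  have : k ≠ 0 := by
    rintro rfl
    simp at h3
  exact dvd_pow_self r this

end Cfsg.Agent.H717.FieldP
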