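import Mathlib
import Cfsg.Agent.H717.Eighty
import Cfsg.Agent.H718.EightyOne
import Cfsg.Agent.S4956

/-!
# The class number of coprime affine two-transitive groups
-/

set_option autoImplicit false
set_option linter.style.haveILetI false
set_option linter.unusedSectionVars false

namespace Cfsg.Agent.H717.Final

open Cfsg.Agent.H717.Semi Cfsg.Agent.H717.FieldP Cfsg.Agent.H717.Zsig Cfsg.Agent.H717.Plane Cfsg.Agent.H717.Coprime

universe u v

theorem exists_card_eq {E : Type u} [AddCommGroup E] [Finite E] {p : ℕ} [hp : Fact p.Prime]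
    (hpE : ∀ e : E, p • e = 0) : ∃ n, Nat.card E = p ^ n := by
  letI : Module (ZMod p) E := AddCommGroup.zmodModule (n := p) hpE
  haveI : Module.Finite (ZMod p) E := Module.Finite.of_finite
  exact ⟨_, by rw [Module.natCard_eq_pow_finrank (K := ZMod p) (V := E), Nat.card_zmod]⟩

theorem class_number {D : Type v} {E : Type u} [Group D] [Finite D] [AddCommGroup E] [Finite E] [Nontrivial E]
    [DistribMulAction D E] [FaithfulSMul D E] (htr : ∀ x y : E, x ≠ 0 → y ≠ 0 → ∃ d : D, d • x = y)
    {p : ℕ} [hp : Fact p.Prime] (hpE : ∀ e : E, p • e = 0) (hcop : ¬ p ∣ Nat.card D) {v : E} (hv : v ≠ 0) :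
    Nat.card (ConjClasses D) + Nat.card (ConjClasses (MulAction.stabilizer D v)) ≤ Nat.card E ∧
    (Nat.card (ConjClasses D) + Nat.card (ConjClasses (MulAction.stabilizer D v)) = Nat.card E →
      IsCyclic D ∨ (Nat.card E = 8 ∧ Nat.card D = 21) ∨ (Nat.card E = 9 ∧ Nat.card D = 16)) := by
  obtain ⟨n, hn⟩ := exists_card_eq hpE
  by_cases hS : IsSemi D E
  · exact Semi.main hpE hcop hS hv
  have key : Nat.card (ConjClasses D) + Nat.card (ConjClasses (MulAction.stabilizer D v)) < Nat.card E := by
    rcases trichotomy htr hpE hcop hn with h | h | ⟨h1, h2⟩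
    · exact absurd h hS
    · subst h
      exact (plane htr hpE hcop hn hv).resolve_left hS
    · subst h1
      subst h2
      have h3 := Cfsg.Agent.H718.EightyOne.eightyone htr hpE hcop (by rw [hn]; norm_num)
        (Eighty.not_thirteen htr hpE hcop hn) hS (fun A hA hAc => Eighty.card_dvd_two htr hpE hcop hn hS A hA hAc) hv
      rw [hn]
      simpa using h3
  exact ⟨key.le, fun h => absurd h key.ne⟩

theorem main {X : Type u} [Group X] [Finite X] (p : ℕ) [hp : Fact p.Prime] (V : Subgroup X) [V.Normal]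
    (hVexp : ∀ v ∈ V, v ^ p = 1) (hidx : ¬ p ∣ V.index) (hself : Subgroup.centralizer (V : Set X) = V)
    (G : Subgroup X) (hGV : Subgroup.IsComplement' V G)
    (htrans : ∀ v ∈ V, ∀ w ∈ V, v ≠ 1 → w ≠ 1 → ∃ g ∈ G, g * v * g⁻¹ = w) :
    Nat.card (ConjClasses X) ≤ Nat.card V ∧ (Nat.card (ConjClasses X) = Nat.card V →
      (IsCyclic G ∨ (Nat.card V = 8 ∧ Nat.card G = 21) ∨ (Nat.card V = 9 ∧ Nat.card G = 16))) := by
  classical
  have hab : ∀ a ∈ V, ∀ b ∈ V, a * b = b * a := by
    intro a ha b hb
    have h1 : b ∈ Subgroup.centralizer (V : Set X) := by rw [hself]; exact hb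
    exact Subgroup.mem_centralizer_iff.1 h1 a ha
  have hGidx : Nat.card G = V.index := by
    have h1 := hGV.card_mul_card
    have h2 := V.card_mul_index
    exact Nat.eq_of_mul_eq_mul_left Nat.card_pos (h1.trans h2.symm)
  have hcopG : ¬ p ∣ Nat.card G := by rw [hGidx]; exact hidx
  rcases subsingleton_or_nontrivial V with hs | hnt
  · -- trivial case
    have hVbot : V = ⊥ := by
      rw [eq_bot_iff]
      intro x hx
      rw [Subgroup.mem_bot]
      exact congrArg Subtype.val (Subsingleton.elim (⟨x, hx⟩ : V) 1)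
    have hX : Subsingleton X := by
      have h1 : (⊤ : Subgroup X) = ⊥ := by
        rw [eq_bot_iff]
        intro x _
        rw [← hVbot, ← hself, Subgroup.mem_centralizer_iff]
        intro h hh
        have : h = 1 := by
          have h3 : h ∈ V := hh
          rw [hVbot, Subgroup.mem_bot] at h3
          exact h3
        rw [this, one_mul, mul_one]
      exact ⟨fun a b => by
        have ha : a ∈ (⊥ : Subgroup X) := by rw [← h1]; trivial
        have hb : b ∈ (⊥ : Subgroup X) := by rw [← h1]; trivial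
        rw [Subgroup.mem_bot] at ha hb
        rw [ha, hb]⟩
    refine ⟨?_, fun _ => Or.inl ?_⟩
    · have h2 : Nat.card (ConjClasses X) ≤ Nat.card X :=
        Nat.card_le_card_of_surjective ConjClasses.mk ConjClasses.mk_surjective
      have h3 : Nat.card X = 1 := Nat.card_of_subsingleton 1
      have h4 : 0 < Nat.card V := Nat.card_pos
      omega
    · haveI : Subsingleton G := ⟨fun a b => Subtype.ext (Subsingleton.elim _ _)⟩
      exact isCyclic_of_subsingleton
  letI : CommGroup V := { (inferInstance : Group V) with mul_comm := fun a b => Subtype.ext (hab a a.2 b b.2) }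
  let E := Additive V
  let act : DistribMulAction G E :=
    { smul := fun g w => Additive.ofMul ⟨(g : X) * (w.toMul : V) * (g : X)⁻¹, Subgroup.Normal.conj_mem ‹_› _ w.toMul.2 _⟩
      one_smul := fun w => by
        apply congrArg Additive.ofMul
        apply Subtype.ext
        change (1 : X) * (w.toMul : V) * (1 : X)⁻¹ = (w.toMul : V)
        rw [one_mul, inv_one, mul_one]
      mul_smul := fun a b w => by
        apply congrArg Additive.ofMul
        apply Subtype.ext
        change ((a : X) * b) * (w.toMul : V) * ((a : X) * b)⁻¹ = (a : X) * ((b : X) * (w.toMul : V) * (b : X)⁻¹) * (a : X)⁻¹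
        group
      smul_zero := fun a => by
        apply congrArg Additive.ofMul
        apply Subtype.ext
        change (a : X) * (1 : X) * (a : X)⁻¹ = 1
        group
      smul_add := fun a w z => by
        apply congrArg Additive.ofMul
        apply Subtype.ext
        change (a : X) * ((w.toMul : V) * (z.toMul : V)) * (a : X)⁻¹ =
          ((a : X) * (w.toMul : V) * (a : X)⁻¹) * ((a : X) * (z.toMul : V) * (a : X)⁻¹)
        group }
  letI := act
  have hact : ∀ (g : G) (w : E), (((g • w : E).toMul : V) : X) = (g : X) * (w.toMul : V) * (g : X)⁻¹ := fun _ _ => rfl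
  have hext : ∀ a b : E, ((a.toMul : V) : X) = (b.toMul : V) → a = b := fun a b h =>
    congrArg Additive.ofMul (Subtype.ext h : a.toMul = b.toMul)
  haveI : FaithfulSMul G E := ⟨by
    intro a b h
    have h1 : ((b : X)⁻¹ * a) ∈ Subgroup.centralizer (V : Set X) := by
      rw [Subgroup.mem_centralizer_iff]
      intro w hw
      have h2 := h (Additive.ofMul ⟨w, hw⟩)
      have h3 : (a : X) * w * (a : X)⁻¹ = (b : X) * w * (b : X)⁻¹ :=
        congrArg (fun z : E => ((z.toMul : V) : X)) h2
      calc w * ((b : X)⁻¹ * a) = (b : X)⁻¹ * ((b : X) * w * (b : X)⁻¹) * a := by group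
        _ = (b : X)⁻¹ * ((a : X) * w * (a : X)⁻¹) * a := by rw [h3]
        _ = (b : X)⁻¹ * a * w := by group
    rw [hself] at h1
    have h4 : (b : X)⁻¹ * a ∈ V ⊓ G := Subgroup.mem_inf.2 ⟨h1, G.mul_mem (G.inv_mem b.2) a.2⟩
    rw [hGV.disjoint.eq_bot, Subgroup.mem_bot] at h4
    exact Subtype.ext (inv_mul_eq_one.1 h4).symm⟩
  have hpE : ∀ e : E, p • e = 0 := by
    intro e
    apply hext
    change (((e.toMul : V) ^ p : V) : X) = 1
    rw [Subgroup.coe_pow]
    exact hVexp _ e.toMul.2
  have h0 : ∀ e : E, e ≠ 0 ↔ ((e.toMul : V) : X) ≠ 1 := by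
    intro e
    constructor
    · intro h1 h2
      exact h1 (hext _ _ h2)
    · rintro h1 rfl
      exact h1 rfl
  have htr : ∀ x y : E, x ≠ 0 → y ≠ 0 → ∃ d : G, d • x = y := by
    intro x y hx hy
    obtain ⟨g, hg, h⟩ := htrans _ x.toMul.2 _ y.toMul.2 ((h0 x).1 hx) ((h0 y).1 hy)
    exact ⟨⟨g, hg⟩, hext _ _ h⟩
  obtain ⟨e₀, he₀⟩ := exists_ne (0 : E)
  have hmain := class_number (D := G) (E := E) htr hpE hcopG he₀
  have hcE : Nat.card E = Nat.card V := rfl
  rw [hcE] at hmain
  -- the class number of `X`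
  set v : X := ((e₀.toMul : V) : X) with hv
  have hvV : v ∈ V := e₀.toMul.2
  have hv1 : v ≠ 1 := (h0 e₀).1 he₀
  have hcop : (Nat.card V).Coprime (Nat.card G) := by
    obtain ⟨n, hn⟩ := exists_card_eq hpE
    rw [← hcE, hn]
    exact Nat.Coprime.pow_left n ((Nat.Prime.coprime_iff_not_dvd hp.out).2 hcopG)
  have hkX := Cfsg.Agent.S4956.result V hab G hGV hcop {1, v} (by
    intro s hs
    rw [Finset.mem_insert, Finset.mem_singleton] at hs
    rcases hs with rfl | rfl
    · exact one_mem V
    · exact hvV) (by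
    intro w hw
    by_cases hw1 : w = 1
    · refine ⟨1, ⟨by simp, 1, one_mem G, by rw [hw1]; group⟩, ?_⟩
      rintro s ⟨hs, g, hg, h⟩
      rw [← h, hw1]
      group
    · refine ⟨v, ⟨by simp, htrans w hw v hvV hw1 hv1⟩, ?_⟩
      rintro s ⟨hs, g, hg, h⟩
      rw [Finset.mem_insert, Finset.mem_singleton] at hs
      rcases hs with rfl | hs
      · exfalso
        apply hw1
        have : w = g⁻¹ * (g * w * g⁻¹) * g := by group
        rw [this, h]
        group
      · exact hs)
  rw [Finset.sum_insert (by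
    rw [Finset.mem_singleton]
    exact fun h => hv1 h.symm), Finset.sum_singleton] at hkX
  have hk1 : Nat.card (ConjClasses ↥(G ⊓ Subgroup.centralizer ({1} : Set X))) = Nat.card (ConjClasses G) := by
    have h1 : G ⊓ Subgroup.centralizer ({1} : Set X) = G := by
      rw [inf_eq_left]
      intro g _
      rw [Subgroup.mem_centralizer_singleton_iff, one_mul, mul_one]
    rw [h1]
  have hk2 : Nat.card (ConjClasses ↥(G ⊓ Subgroup.centralizer ({v} : Set X))) =
      Nat.card (ConjClasses (MulAction.stabilizer G e₀)) := by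
    refine card_conj_congr ?_
    let f : MulAction.stabilizer G e₀ →* ↥(G ⊓ Subgroup.centralizer ({v} : Set X)) :=
      { toFun := fun g => ⟨((g : G) : X), by
          rw [Subgroup.mem_inf, Subgroup.mem_centralizer_singleton_iff]
          refine ⟨(g : G).2, ?_⟩
          have h1 : (g : G) • e₀ = e₀ := g.2
          have h2 : ((g : G) : X) * v * ((g : G) : X)⁻¹ = v := congrArg (fun z : E => ((z.toMul : V) : X)) h1
          exact mul_inv_eq_iff_eq_mul.1 h2⟩
        map_one' := rfl
        map_mul' := fun _ _ => rfl }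
    refine (MulEquiv.ofBijective f ⟨?_, ?_⟩).symm
    · intro a b h
      have h1 : ((a : G) : X) = ((b : G) : X) :=
        congrArg (fun z : ↥(G ⊓ Subgroup.centralizer ({v} : Set X)) => (z : X)) h
      exact Subtype.ext (Subtype.ext h1)
    · rintro ⟨g, hg⟩
      have hg' := hg
      rw [Subgroup.mem_inf, Subgroup.mem_centralizer_singleton_iff] at hg'
      refine ⟨⟨⟨g, hg'.1⟩, ?_⟩, rfl⟩
      refine hext _ _ ?_
      change g * v * g⁻¹ = v
      rw [hg'.2]
      group
  rw [hk1, hk2] at hkX
  rw [hkX]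
  exact hmain

end Cfsg.Agent.H717.Final
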