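import Mathlib
import Cfsg.Agent.H851.SimsDefs
import Cfsg.Agent.H717.Push
import Cfsg.Agent.Lib.NormalAbelian
import Cfsg.Agent.OddOrderLocal.Thm34Weights

/-!
# The Sims conjecture: the cross characteristic case

If the socle `S` has a faithful linear representation of bounded degree over a field of characteristic
`r ≠ p`, the point stabilizer `A` of the `p`-constrained configuration is bounded.
-/

set_option autoImplicit false

namespace Cfsg.Agent.H717.Sims

open Module Cfsg.Agent.OddOrderLocal.Thm34Weights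
open scoped Pointwise

universe u

section lin

variable {F : Type*} [Field F] {X : Type*} [Group X] [Finite X] {V : Type*} [AddCommGroup V] [Module F V]
  [FiniteDimensional F V]

/-- The weights. -/
def Wts (ρ : Representation F X V) (D : Subgroup X) : Type _ := {χ : D → F // wt ρ D χ ≠ ⊥}

theorem finite_wts (ρ : Representation F X V) (D : Subgroup X) (hD : (Nat.card D : F) ≠ 0)
    (hcomm : ∀ a ∈ D, ∀ b ∈ D, a * b = b * a) : Finite (Wts ρ D) := by
  have h := indep_wt ρ D hD hcomm
  let _ := h.fintypeNeBotOfFiniteDimensional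
  exact Finite.of_fintype {χ : D → F // wt ρ D χ ≠ ⊥}

theorem card_wts (ρ : Representation F X V) (D : Subgroup X) (hD : (Nat.card D : F) ≠ 0)
    (hcomm : ∀ a ∈ D, ∀ b ∈ D, a * b = b * a) : Nat.card (Wts ρ D) ≤ finrank F V := by
  have h := indep_wt ρ D hD hcomm
  let _ := h.fintypeNeBotOfFiniteDimensional
  have h1 := h.subtype_ne_bot_le_finrank
  rw [← Nat.card_eq_fintype_card] at h1
  exact h1

/-- Elements of `D` with the same weights are equal. -/
theorem eq_of_wts [IsAlgClosed F] (ρ : Representation F X V) (hρ : Function.Injective ρ) (D : Subgroup X)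
    (hD : (Nat.card D : F) ≠ 0) (hcomm : ∀ a ∈ D, ∀ b ∈ D, a * b = b * a) (a b : D)
    (h : ∀ χ : Wts ρ D, χ.1 a = χ.1 b) : a = b := by
  apply Subtype.ext
  apply hρ
  have h1 : ∀ χ : D → F, wt ρ D χ ≤ LinearMap.eqLocus (ρ a) (ρ b) := by
    intro χ
    by_cases hχ : wt ρ D χ = ⊥
    · rw [hχ]; exact bot_le
    · intro v hv
      rw [mem_wt] at hv
      rw [LinearMap.mem_eqLocus, hv a, hv b]
      exact congrArg (· • v) (h ⟨χ, hχ⟩)
  have h2 : (⊤ : Submodule F V) ≤ LinearMap.eqLocus (ρ a) (ρ b) := by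
    rw [← iSup_wt ρ D hD hcomm]
    exact iSup_le h1
  apply LinearMap.ext
  intro v
  exact h2 (Submodule.mem_top : v ∈ (⊤ : Submodule F V))

/-- The number of elements of `D` of exponent `m`. -/
theorem card_torsion [IsAlgClosed F] (ρ : Representation F X V) (hρ : Function.Injective ρ) (D : Subgroup X)
    (hD : (Nat.card D : F) ≠ 0) (hcomm : ∀ a ∈ D, ∀ b ∈ D, a * b = b * a) {m : ℕ} (hm : 0 < m) :
    Nat.card {d : D // d ^ m = 1} ≤ m ^ finrank F V := by
  classical
  have := finite_wts ρ D hD hcomm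
  let R : Type _ := {x : F // x ∈ (Polynomial.nthRoots m (1 : F)).toFinset}
  have hR : Nat.card R ≤ m := by
    have h1 : Nat.card R = (Polynomial.nthRoots m (1 : F)).toFinset.card := by
      rw [Nat.card_eq_fintype_card, Fintype.card_coe]
    rw [h1]
    exact (Multiset.toFinset_card_le _).trans (Polynomial.card_nthRoots m 1)
  have hpow : ∀ (χ : Wts ρ D) (d : D) (j : ℕ), χ.1 (d ^ j) = χ.1 d ^ j := by
    intro χ d j
    induction j with
    | zero => rw [pow_zero, pow_zero, wt_one χ.2]
    | succ j ih => rw [pow_succ, wt_mul χ.2, ih, pow_succ]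
  let f : {d : D // d ^ m = 1} → (Wts ρ D → R) := fun d χ => ⟨χ.1 d.1, by
    rw [Multiset.mem_toFinset, Polynomial.mem_nthRoots hm, ← hpow, d.2, wt_one χ.2]⟩
  have hf : Function.Injective f := by
    intro a b hab
    apply Subtype.ext
    apply eq_of_wts ρ hρ D hD hcomm
    intro χ
    exact congrArg Subtype.val (congrFun hab χ)
  calc Nat.card {d : D // d ^ m = 1} ≤ Nat.card (Wts ρ D → R) := Nat.card_le_card_of_injective f hf
    _ = Nat.card R ^ Nat.card (Wts ρ D) := Nat.card_fun
    _ ≤ m ^ Nat.card (Wts ρ D) := Nat.pow_le_pow_left hR _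
    _ ≤ m ^ finrank F V := Nat.pow_le_pow_right hm (card_wts ρ D hD hcomm)

attribute [local instance] wtAction in
/-- The action on the weights. -/
@[reducible] def wtsAction (ρ : Representation F X V) (D : Subgroup X) [D.Normal] : MulAction X (Wts ρ D) where
  smul g χ := ⟨g • χ.1, wt_smul_ne_bot χ.2 g⟩
  one_smul χ := Subtype.ext (one_smul X χ.1)
  mul_smul g h χ := Subtype.ext (mul_smul g h χ.1)

/-- The index of a self-centralising abelian normal subgroup. -/
theorem index_dvd [IsAlgClosed F] (ρ : Representation F X V) (hρ : Function.Injective ρ) (D : Subgroup X) [D.Normal]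
    (hD : (Nat.card D : F) ≠ 0) (hcomm : ∀ a ∈ D, ∀ b ∈ D, a * b = b * a)
    (hcent : Subgroup.centralizer (D : Set X) ≤ D) : D.index ∣ (finrank F V).factorial := by
  classical
  have := finite_wts ρ D hD hcomm
  let _ := Fintype.ofFinite (Wts ρ D)
  let _ := wtsAction ρ D
  let φ : X →* Equiv.Perm (Wts ρ D) := MulAction.toPermHom X (Wts ρ D)
  have hker : φ.ker ≤ D := by
    intro x hx
    apply hcent
    rw [Subgroup.mem_centralizer_iff]
    intro d hd
    have h1 : (MulAut.conjNormal x⁻¹ (⟨d, hd⟩ : D)) = ⟨d, hd⟩ := by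
      apply eq_of_wts ρ hρ D hD hcomm
      intro χ
      have h2 : φ x χ = χ := by
        rw [MonoidHom.mem_ker.1 hx]; rfl
      have h3 := congrArg Subtype.val h2
      exact congrFun h3 ⟨d, hd⟩
    have h4 := congrArg Subtype.val h1
    rw [MulAut.conjNormal_apply] at h4
    have h5 : x⁻¹ * d * x⁻¹⁻¹ = d := h4
    rw [inv_inv] at h5
    calc d * x = x * (x⁻¹ * d * x) := by group
      _ = x * d := by rw [h5]
  have h1 : D.index ∣ φ.ker.index := Subgroup.index_dvd_of_le hker
  have h2 : φ.ker.index ∣ Nat.card (Equiv.Perm (Wts ρ D)) := by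
    rw [Subgroup.index_ker]
    exact Subgroup.card_subgroup_dvd_card _
  have h3 : Nat.card (Equiv.Perm (Wts ρ D)) = (Nat.card (Wts ρ D)).factorial := by
    rw [Nat.card_eq_fintype_card, Fintype.card_perm, Nat.card_eq_fintype_card]
  rw [h3] at h2
  exact (h1.trans h2).trans (Nat.factorial_dvd_factorial (card_wts ρ D hD hcomm))

end lin

/-- A `p`-group with a faithful representation of degree at most `N` in characteristic `r ≠ p`. -/
theorem exists_abelian (N p r : ℕ) (hp : p.Prime) (hr : r.Prime) (hpr : p ≠ r) {P : Type*} [Group P] [Finite P]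
    (hP : IsPGroup p P) (hL : H851.Sims.LinDeg N r P) :
    ∃ D : Subgroup P, D.Normal ∧ (∀ a ∈ D, ∀ b ∈ D, a * b = b * a) ∧ D.index ∣ N.factorial ∧
      ∀ m : ℕ, 0 < m → Nat.card {d : D // d ^ m = 1} ≤ m ^ N := by
  classical
  obtain ⟨n, k, _, _, σ, hn, hσ⟩ := hL
  have := Fact.mk hp
  have := Fact.mk hr
  have : Group.IsNilpotent P := hP.isNilpotent
  obtain ⟨D, hDn, hDc, hcent⟩ := Lib.NormalAbelian.exists_normal_abelian_selfCentralizing (G := P)
  have hcomm : ∀ a ∈ D, ∀ b ∈ D, a * b = b * a := fun a ha b hb =>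
    congrArg Subtype.val (hDc.is_comm.comm (⟨a, ha⟩ : D) ⟨b, hb⟩)
  let K := AlgebraicClosure k
  let V := Fin n → K
  let ρ : Representation K P V :=
    (Matrix.toLinAlgEquiv' : Matrix (Fin n) (Fin n) K ≃ₐ[K] _).toMulEquiv.toMonoidHom.comp
      ((RingHom.mapMatrix (algebraMap k K)).toMonoidHom.comp
        ((Units.coeHom (Matrix (Fin n) (Fin n) k)).comp σ))
  have hρ : Function.Injective ρ := by
    intro x y hxy
    have h1 : (RingHom.mapMatrix (algebraMap k K)) (σ x).val = (RingHom.mapMatrix (algebraMap k K)) (σ y).val :=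
      (Matrix.toLinAlgEquiv' : Matrix (Fin n) (Fin n) K ≃ₐ[K] _).injective hxy
    have h2 : (σ x).val = (σ y).val := by
      ext i j
      have h3 := congrFun (congrFun h1 i) j
      exact (algebraMap k K).injective h3
    exact hσ (Units.ext h2)
  have hfin : finrank K V = n := by simp [V]
  have hD : (Nat.card D : K) ≠ 0 := by
    obtain ⟨j, hj⟩ := (IsPGroup.iff_card.1 (hP.to_subgroup D))
    rw [hj, Nat.cast_pow]
    apply pow_ne_zero
    intro h0
    have : CharP K r := charP_of_injective_algebraMap (algebraMap k K).injective r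
    rw [CharP.cast_eq_zero_iff K r] at h0
    exact hpr ((Nat.prime_dvd_prime_iff_eq hr hp).1 h0).symm
  refine ⟨D, hDn, hcomm, ?_, ?_⟩
  · have h := index_dvd ρ hρ D hD hcomm hcent.le
    rw [hfin] at h
    exact h.trans (Nat.factorial_dvd_factorial hn)
  · intro m hm
    have h := card_torsion ρ hρ D hD hcomm hm
    rw [hfin] at h
    exact h.trans (Nat.pow_le_pow_right hm hn)

theorem normalCore_eq_bot {G : Type*} [Group G] {c p : ℕ} {S A Q : Subgroup G} {g : G}
    (h : H851.Sims.Cfg c p S A Q g) : A.normalCore = ⊥ := by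
  have := h.norm
  have hs := h.simple
  have h1 : Disjoint A.normalCore S := by
    rw [disjoint_iff]
    rcases hs.eq_bot_or_eq_top_of_normal (A.normalCore.subgroupOf S) inferInstance with h2 | h2
    · rw [Subgroup.subgroupOf_eq_bot, disjoint_iff] at h2
      exact h2
    · rw [Subgroup.subgroupOf_eq_top] at h2
      exact absurd (h2.trans (Subgroup.normalCore_le A)) h.notle
  rw [eq_bot_iff, ← h.cent]
  intro x hx
  rw [Subgroup.mem_centralizer_iff]
  intro y hy
  exact (Subgroup.commute_of_normal_of_disjoint A.normalCore S inferInstance h.norm h1 x y hx hy).symm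

/-- **The cross characteristic case** of the Sims conjecture. -/
theorem cross_bound (c N : ℕ) : ∃ F : ℕ, ∀ {G : Type u} [Group G] [Finite G] (p r : ℕ) (S A Q : Subgroup G) (g : G),
    H851.Sims.Cfg c p S A Q g → r.Prime → p ≠ r → H851.Sims.LinDeg N r S →
      Nat.card (A ⊓ S : Subgroup G) ≤ F := by
  classical
  set m := N.factorial with hm
  set b := c * m with hb
  set M := (c * b).factorial with hM
  refine ⟨b * m ^ N * M ^ N, ?_⟩
  intro G _ _ p r S A Q g h hr hpr hL
  have := h.norm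
  have hm0 : 0 < m := Nat.factorial_pos N
  have hM0 : 0 < M := Nat.factorial_pos _
  set P : Subgroup G := Q ⊓ S with hPdef
  have hPS : P ≤ S := inf_le_right
  have hPA : P ≤ A := inf_le_left.trans h.Qle
  have hPAS : P ≤ A ⊓ S := le_inf hPA hPS
  have hPp : IsPGroup p P := h.Qp.to_le inf_le_left
  have hLP : H851.Sims.LinDeg N r P := by
    obtain ⟨n, k, _, _, σ, hn, hσ⟩ := hL
    exact ⟨n, k, _, ‹_›, σ.comp (Subgroup.inclusion hPS), hn, hσ.comp (Subgroup.inclusion_injective hPS)⟩
  obtain ⟨D₀, hD₀n, hD₀c, hD₀i, hD₀t⟩ := exists_abelian N p r h.prime hr hpr hPp hLP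
  have hD₀le : D₀.index ≤ m := Nat.le_of_dvd hm0 hD₀i
  have hPidx : P.relIndex (A ⊓ S) ≤ c := by
    have h1 : P = Q ⊓ (A ⊓ S) := by
      rw [← inf_assoc, inf_eq_left.2 h.Qle]
    rw [h1, Subgroup.inf_relIndex_right]
    exact (Push.relIndex_mono inf_le_left).trans h.Qidx
  set D : Subgroup G := D₀.map P.subtype with hD
  have hDP : D ≤ P := Subgroup.map_subtype_le D₀
  have hDidx : D.relIndex P ≤ m := by
    have h1 : D.subgroupOf P = D₀ := Subgroup.comap_map_eq_self_of_injective P.subtype_injective D₀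
    rw [Subgroup.relIndex, h1]
    exact hD₀le
  have hDcomm : ∀ x ∈ D, ∀ y ∈ D, x * y = y * x := by
    rintro _ ⟨x, hx, rfl⟩ _ ⟨y, hy, rfl⟩
    exact congrArg Subtype.val (hD₀c x hx y hy)
  have hpowD : ∀ y ∈ P, y ^ m ∈ D := by
    intro y hy
    have h1 : (⟨y, hy⟩ : P) ^ D₀.index ∈ D₀ := Subgroup.pow_index_mem D₀ _
    obtain ⟨j, hj⟩ := hD₀i
    have h2 : (⟨y, hy⟩ : P) ^ m ∈ D₀ := by
      rw [hm, hj, pow_mul]
      exact D₀.pow_mem h1 j
    exact ⟨_, h2, rfl⟩
  have hPinv : ∀ a ∈ A, ∀ y ∈ P, a * y * a⁻¹ ∈ P := by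
    intro a ha y hy
    refine ⟨?_, h.norm.conj_mem y hy.2 a⟩
    exact (Subgroup.mem_normalizer_iff.1 (h.Qnorm ha) y).1 hy.1
  set E : Subgroup G := Subgroup.closure {x | ∃ y ∈ P, y ^ m = x} with hE
  have hED : E ≤ D := by
    rw [hE, Subgroup.closure_le]
    rintro _ ⟨y, hy, rfl⟩
    exact hpowD y hy
  have hEconj : ∀ a ∈ A, ∀ x ∈ E, a * x * a⁻¹ ∈ E := by
    intro a ha x hx
    have h1 : E ≤ E.comap (MulAut.conj a).toMonoidHom := by
      conv_lhs => rw [hE]
      rw [Subgroup.closure_le]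
      rintro _ ⟨y, hy, rfl⟩
      change a * y ^ m * a⁻¹ ∈ E
      rw [← conj_pow]
      exact Subgroup.subset_closure ⟨_, hPinv a ha y hy, rfl⟩
    exact h1 hx
  have hinv : Push.Inv A E := by
    intro a ha
    ext x
    rw [Push.conj_smul_mem]
    constructor
    · intro hx
      have h1 := hEconj a ha _ hx
      have e : a * (a⁻¹ * x * a) * a⁻¹ = x := by group
      rwa [e] at h1
    · intro hx
      have h1 := hEconj a⁻¹ (A.inv_mem ha) _ hx
      rwa [inv_inv] at h1
  have hcore : A.normalCore = ⊥ := normalCore_eq_bot h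
  have hcb : (Subgroup.centralizer (E : Set G)).relIndex (A ⊓ S) ≤ b := by
    have h1 : D ≤ Subgroup.centralizer (E : Set G) := fun x hx => 
      Subgroup.mem_centralizer_iff.2 fun y hy => hDcomm y (hED hy) x hx
    have h2 : D.relIndex (A ⊓ S) ≤ b := by
      rw [← Subgroup.relIndex_mul_relIndex D P (A ⊓ S) hDP hPAS, hb, mul_comm c m]
      exact Nat.mul_le_mul hDidx hPidx
    exact (Subgroup.relIndex_le_of_le_left h1 (Push.relIndex_pos _ _).ne').trans h2
  have hexp : ∀ x ∈ E, x ^ M = 1 := 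
    Push.pow_eq_one h.coatom hcore h.notmem (d := c) h.idx S (hED.trans (hDP.trans hPA)) 
      (hED.trans (hDP.trans hPS)) hinv (fun x hx y hy => hDcomm x (hED hx) y (hED hy)) hcb
  -- the order of `E`
  have hEcard : Nat.card E ≤ M ^ N := by
    refine le_trans ?_ (hD₀t M hM0)
    have hEP : ∀ x ∈ E, x ∈ P := fun x hx => hDP (hED hx)
    have hED₀ : ∀ (x : G) (hx : x ∈ E), (⟨x, hEP x hx⟩ : P) ∈ D₀ := by
      intro x hx
      obtain ⟨y, hy, he⟩ := hED hx
      have : (⟨x, hEP x hx⟩ : P) = y := Subtype.ext he.symm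
      rw [this]; exact hy
    let f : E → {d : D₀ // d ^ M = 1} := fun x => ⟨⟨⟨x, hEP x x.2⟩, hED₀ x x.2⟩, by
      apply Subtype.ext; apply Subtype.ext
      exact hexp x x.2⟩
    apply Nat.card_le_card_of_injective f
    intro x y hxy
    have h1 := congrArg (fun d : {d : D₀ // d ^ M = 1} => ((d.1 : P) : G)) hxy
    exact Subtype.ext h1
  -- the order of `D`
  have hDcard : Nat.card D₀ ≤ M ^ N * m ^ N := by
    let _ : CommGroup D₀ := { (inferInstance : Group D₀) with
      mul_comm := fun x y => Subtype.ext (hD₀c x x.2 y y.2) }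
    let φ : D₀ →* D₀ := powMonoidHom m
    have h1 : Nat.card D₀ = Nat.card φ.ker * Nat.card φ.range := by
      rw [← Subgroup.card_mul_index φ.ker, Subgroup.index_ker]
    have h2 : Nat.card φ.ker ≤ m ^ N := hD₀t m hm0
    have h3 : Nat.card φ.range ≤ M ^ N := by
      refine le_trans ?_ hEcard
      let f : φ.range → E := fun x => ⟨((x.1 : P) : G), by
        obtain ⟨y, hy⟩ := x.2
        refine Subgroup.subset_closure ⟨((y : P) : G), (y : P).2, ?_⟩
        rw [← hy]; rfl⟩
      apply Nat.card_le_card_of_injective f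
      intro x y hxy
      have h1 := congrArg (fun d : E => (d : G)) hxy
      exact Subtype.ext (Subtype.ext (Subtype.ext h1))
    rw [h1, mul_comm]
    exact Nat.mul_le_mul h3 h2
  have hPcard : Nat.card P ≤ M ^ N * m ^ N * m := by
    rw [← Subgroup.card_mul_index D₀]
    exact Nat.mul_le_mul hDcard hD₀le
  have h1 : Nat.card (A ⊓ S : Subgroup G) = Nat.card P * P.relIndex (A ⊓ S) := by
    rw [mul_comm, ← Push.relIndex_mul_card P (A ⊓ S), inf_eq_left.2 hPAS]
  rw [h1]
  calc Nat.card P * P.relIndex (A ⊓ S) ≤ (M ^ N * m ^ N * m) * c := Nat.mul_le_mul hPcard hPidx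
    _ = b * m ^ N * M ^ N := by rw [hb]; ring

end Cfsg.Agent.H717.Sims
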