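import Cfsg.Agent.H717.SimsRedD

/-!
# Reduction of the Sims conjecture to the almost simple configuration (helper717, for S3386)
-/

set_option autoImplicit false

namespace Cfsg.Agent.H717.Sims

universe u

open Cfsg.Agent.H851.Sims

theorem exists_minimal_normal (G : Type*) [Group G] [Finite G] [Nontrivial G] :
    ∃ N : Subgroup G, N.Normal ∧ N ≠ ⊥ ∧ ∀ M : Subgroup G, M.Normal → M ≤ N → M = ⊥ ∨ M = N := by
  classical
  have hwf : ∃ n : ℕ, ∃ N : Subgroup G, N.Normal ∧ N ≠ ⊥ ∧ Nat.card N = n :=
    ⟨_, ⊤, inferInstance, fun h => by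
      obtain ⟨x, hx⟩ := exists_ne (1 : G)
      exact hx (Subgroup.mem_bot.1 (h ▸ Subgroup.mem_top x)), rfl⟩
  obtain ⟨N, hN, hNb, hcard⟩ := Nat.find_spec hwf
  refine ⟨N, hN, hNb, fun M hM hMN => ?_⟩
  by_cases hMb : M = ⊥
  · exact Or.inl hMb
  · right
    refine Subgroup.eq_of_le_of_card_ge hMN ?_
    rw [hcard]
    exact Nat.find_min' hwf ⟨M, hM, hMb, rfl⟩

/-- The conclusion of the Thompson–Wielandt theorem used in the reduction. -/
def TwConcl (d c : ℕ) : Prop :=
  ∀ {G : Type u} [Group G] [Finite G] (A : Subgroup G) (g : G), IsCoatom A → A.normalCore = ⊥ → g ∉ A →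
    (cjS g A).relIndex A ≤ d → Nat.card A ≤ c ∨ ∃ (p : ℕ) (Q : Subgroup G), p.Prime ∧ p ≤ c ∧ Q ≤ A ∧
      A ≤ Subgroup.normalizer (Q : Set G) ∧ IsPGroup p Q ∧ Subgroup.centralizer (Q : Set G) ⊓ A ≤ Q ∧
      (∀ N : Subgroup G, N ≤ A → A ≤ Subgroup.normalizer (N : Set G) → IsPGroup p N → N ≤ Q) ∧ Q.relIndex A ≤ c

/-- **Reduction theorem** for the Sims conjecture. -/
theorem reduction_of_tw (tw : ∀ d : ℕ, ∃ c : ℕ, d ≤ c ∧ TwConcl.{u} d c)
    (h : ∀ c : ℕ, ∃ F : ℕ, ∀ {G : Type u} [Group G] [Finite G] (p : ℕ) (S A Q : Subgroup G) (g : G),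
      Cfg c p S A Q g → Nat.card (A ⊓ S : Subgroup G) ≤ F) (d : ℕ) :
    ∃ F : ℕ, ∀ {G : Type u} [Group G] [Finite G] (A : Subgroup G) (g : G), IsCoatom A → A.normalCore = ⊥ →
      g ∉ A → (cjS g A).relIndex A ≤ d → Nat.card A ≤ F := by
  classical
  obtain ⟨c, hdc, hc⟩ := tw d
  obtain ⟨F, hF⟩ := h c
  refine ⟨max d.factorial (((d + 1) * max d.factorial ((max c F) ^ (d * d))).factorial), ?_⟩
  intro G _ _ A g hA hcore hg hd
  have hnt : Nontrivial G := ⟨⟨1, g, fun h' => hg (h' ▸ A.one_mem)⟩⟩
  obtain ⟨N, hN, hNb, hmin⟩ := exists_minimal_normal G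
  by_cases hNA' : N ⊓ A = ⊥
  · exact (card_le_of_regular hA hcore hNb hNA' hg hd).trans (le_max_left _ _)
  · refine le_trans ?_ (le_max_right _ _)
    refine (card_le_of_inf hA hcore hNA' hg hd).trans (Nat.factorial_le (Nat.mul_le_mul_left _ ?_))
    -- `N` is not abelian
    have hcent := centralizer_eq_bot hA hcore hNA'
    have hna : ¬ ∀ x ∈ N, ∀ y ∈ N, Commute x y := by
      intro h'
      apply hNb
      rw [eq_bot_iff, ← hcent]
      intro x hx
      rw [Subgroup.mem_centralizer_iff]
      intro y hy
      exact h' y hy x hx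
    have hNle : ¬ N ≤ A := by
      intro h'
      apply hNb
      rw [eq_bot_iff, ← hcore]
      exact Subgroup.normal_le_normalCore.2 h'
    have hNA : N ⊔ A = ⊤ := by
      rw [sup_comm]
      apply hA.2
      exact lt_of_le_of_ne le_sup_left fun h' => hNle (by rw [h']; exact le_sup_right)
    obtain ⟨m, T, pr, hm, hco⟩ := exists_co N hmin hna
    rcases hco.dichotomy hA with hP | hD
    · refine le_trans ?_ (le_max_right _ _)
      obtain ⟨i, q, hq, hqd⟩ := hco.exists_almost_simple hA hcore hNA hNA' hP hg hd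
      have hQ := hco.quo hA hcore hNA hNA' hP i
      -- the bound for the almost simple quotient
      have hb : Nat.card ((A.subgroupOf (Subgroup.normalizer (T i : Set G))).map
          (T i).normalizerMonoidHom.rangeRestrict ⊓ ((T i).subgroupOf
          (Subgroup.normalizer (T i : Set G))).map (T i).normalizerMonoidHom.rangeRestrict :
          Subgroup ((T i).normalizerMonoidHom).range) ≤ max c F := by
        rcases hc _ q hQ.coatom hQ.core' hq hqd with h1 | ⟨p, Q, hp, hpc, hQA, hQn, hQp, hQc, hQm, hQi⟩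
        · refine le_trans ?_ (le_max_left _ _)
          refine le_trans ?_ h1
          exact Subgroup.card_le_of_le inf_le_left
        · refine le_trans ?_ (le_max_right _ _)
          exact hF p _ _ Q q
            { norm := hQ.norm'
              simple := hQ.simple'
              nonab := hQ.nonab'
              cent := hQ.cent'
              coatom := hQ.coatom
              notle := hQ.notle'
              notmem := hq
              idx := hqd.trans hdc
              prime := hp
              ple := hpc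
              Qle := hQA
              Qnorm := hQn
              Qp := hQp
              Qcent := hQc
              Qmax := hQm
              Qidx := hQi }
      have hb2 := (hQ.card_le).trans hb
      have hb3 : Nat.card (A ⊓ T i : Subgroup G) ≤ max c F := by
        refine le_trans ?_ hb2
        refine Nat.card_le_card_of_injective (fun x : (A ⊓ T i : Subgroup G) =>
          (⟨⟨(x : G), Subgroup.le_normalizer x.2.2⟩, x.2.1, x.2.2⟩ :
            (A.subgroupOf (Subgroup.normalizer (T i : Set G)) ⊓ (T i).subgroupOf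
              (Subgroup.normalizer (T i : Set G)) : Subgroup _))) ?_
        intro x y hxy
        apply Subtype.ext
        exact congrArg (fun z => ((z : Subgroup.normalizer (T i : Set G)) : G)) (congrArg Subtype.val hxy)
      have hpos : 1 ≤ max c F := (Nat.card_pos (α := (A ⊓ T i : Subgroup G))).trans_le hb3
      refine (hco.card_inf_le hP (r := max c F) fun j => (hco.card_inf_T hNA i j).trans hb3).trans ?_
      exact Nat.pow_le_pow_right hpos (hco.card_factors hA hcore hNA hNA' hP hg hd)
    · exact (hco.card_subdirect hA hcore hNA hNA' hD hg hd).trans (le_max_left _ _)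

end Cfsg.Agent.H717.Sims
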