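import Mathlib
import Cfsg.Agent.H851.SimsDefs

/-!
# Reduction of the Sims conjecture, part A: general lemmas, regular normal subgroups, the subgroup `⟨N_b⟩`
(helper717, for S3386)
-/

set_option autoImplicit false

namespace Cfsg.Agent.H717.Sims

open Cfsg.Agent.H851.Sims

variable {G : Type*} [Group G]

theorem mem_cjS {g x : G} {A : Subgroup G} : x ∈ cjS g A ↔ g⁻¹ * x * g ∈ A := by
  constructor
  · rintro ⟨y, hy, rfl⟩
    have : g⁻¹ * ((MulAut.conj g).toMonoidHom y) * g = y := by
      change g⁻¹ * (g * y * g⁻¹) * g = y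
      group
    rw [this]; exact hy
  · intro h
    refine ⟨g⁻¹ * x * g, h, ?_⟩
    change g * (g⁻¹ * x * g) * g⁻¹ = x
    group

theorem cjS_mul (g h : G) (A : Subgroup G) : cjS (g * h) A = cjS g (cjS h A) := by
  ext x
  rw [mem_cjS, mem_cjS, mem_cjS]
  have : (g * h)⁻¹ * x * (g * h) = h⁻¹ * (g⁻¹ * x * g) * h := by group
  rw [this]

theorem cjS_of_mem {g : G} {A : Subgroup G} (hg : g ∈ A) : cjS g A = A := by
  ext x
  rw [mem_cjS]
  constructor
  · intro h
    have := A.mul_mem (A.mul_mem hg h) (A.inv_mem hg)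
    have e : g * (g⁻¹ * x * g) * g⁻¹ = x := by group
    rwa [e] at this
  · intro h
    exact A.mul_mem (A.mul_mem (A.inv_mem hg) h) hg

theorem card_cjS [Finite G] (g : G) (A : Subgroup G) : Nat.card (cjS g A) = Nat.card A :=
  (Nat.card_congr (A.equivMapOfInjective _ (MulAut.conj g).injective).toEquiv).symm

/-- `A` normalises `X`, elementwise. -/
def Nz (A X : Subgroup G) : Prop := ∀ a ∈ A, ∀ x ∈ X, a * x * a⁻¹ ∈ X

/-- A subgroup of a core-free maximal subgroup `A` which is normalised by `A` and by a subgroup not inside `A` is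
trivial. -/
theorem eq_bot_of {A : Subgroup G} (hA : IsCoatom A) (hcore : A.normalCore = ⊥) {X M : Subgroup G} (hX : X ≤ A)
    (hAX : Nz A X) (hMX : Nz M X) (hM : ¬ M ≤ A) : X = ⊥ := by
  have hsup : A ⊔ M = ⊤ := by
    apply hA.2
    refine lt_of_le_of_ne le_sup_left ?_
    intro h
    exact hM (by rw [h]; exact le_sup_right)
  have hN : X.Normal := by
    -- the set of elements whose conjugation and inverse conjugation preserve `X`
    let S : Subgroup G :=
      { carrier := {g | (∀ x ∈ X, g * x * g⁻¹ ∈ X) ∧ ∀ x ∈ X, g⁻¹ * x * g ∈ X}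
        one_mem' := by simp
        mul_mem' := by
          rintro a b ⟨ha, ha'⟩ ⟨hb, hb'⟩
          refine ⟨fun x hx => ?_, fun x hx => ?_⟩
          · have : a * b * x * (a * b)⁻¹ = a * (b * x * b⁻¹) * a⁻¹ := by group
            rw [this]; exact ha _ (hb _ hx)
          · have : (a * b)⁻¹ * x * (a * b) = b⁻¹ * (a⁻¹ * x * a) * b := by group
            rw [this]; exact hb' _ (ha' _ hx)
        inv_mem' := by
          rintro a ⟨ha, ha'⟩
          refine ⟨fun x hx => by rw [inv_inv]; exact ha' x hx, fun x hx => by rw [inv_inv]; exact ha x hx⟩ }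
    have hle : ∀ K : Subgroup G, Nz K X → K ≤ S := by
      intro K hK k hk
      refine ⟨hK k hk, fun x hx => ?_⟩
      have := hK _ (K.inv_mem hk) x hx
      rwa [inv_inv] at this
    have hS : S = ⊤ := by
      rw [eq_top_iff, ← hsup]
      exact sup_le (hle A hAX) (hle M hMX)
    refine ⟨fun x hx g => ?_⟩
    have hg : g ∈ S := by rw [hS]; trivial
    exact hg.1 x hx
  have h1 : X ≤ A.normalCore := Subgroup.normal_le_normalCore.2 hX
  rw [hcore] at h1
  exact le_bot_iff.1 h1

/-- A subgroup `Y ≤ A` acting faithfully on the cosets of `D` in `A` has order at most `|A : D|!`. -/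
theorem card_le_factorial [Finite G] {A Y D : Subgroup G} {d : ℕ} (hY : Y ≤ A) (hD : D.relIndex A ≤ d)
    (hker : ∀ x ∈ Y, (∀ a ∈ A, a⁻¹ * x * a ∈ D) → x = 1) : Nat.card Y ≤ d.factorial := by
  classical
  let φ : A →* Equiv.Perm (A ⧸ D.subgroupOf A) := MulAction.toPermHom A (A ⧸ D.subgroupOf A)
  let ψ : Y →* Equiv.Perm (A ⧸ D.subgroupOf A) := φ.comp (Subgroup.inclusion hY)
  have hinj : Function.Injective ψ := by
    rw [injective_iff_map_eq_one]
    intro x hx
    apply Subtype.ext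
    apply hker x x.2
    intro a ha
    have h1 := congrArg (fun τ : Equiv.Perm (A ⧸ D.subgroupOf A) => τ (QuotientGroup.mk ⟨a, ha⟩)) hx
    have h2 : (QuotientGroup.mk ((Subgroup.inclusion hY x) * ⟨a, ha⟩) : A ⧸ D.subgroupOf A) =
        QuotientGroup.mk ⟨a, ha⟩ := h1
    have h3 := QuotientGroup.eq.1 h2.symm
    rw [Subgroup.mem_subgroupOf] at h3
    have h4 : (((⟨a, ha⟩ : A)⁻¹ * (Subgroup.inclusion hY x * ⟨a, ha⟩) : A) : G) = a⁻¹ * (x : G) * a := by
      change a⁻¹ * ((x : G) * a) = _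
      group
    rwa [h4] at h3
  calc Nat.card Y ≤ Nat.card (Equiv.Perm (A ⧸ D.subgroupOf A)) := Nat.card_le_card_of_injective ψ hinj
    _ = (Nat.card (A ⧸ D.subgroupOf A)).factorial := Nat.card_perm
    _ ≤ d.factorial := Nat.factorial_le hD

/-- Regular normal subgroup. -/
theorem card_le_of_regular [Finite G] {A N : Subgroup G} [hN : N.Normal] (hA : IsCoatom A) (hcore : A.normalCore = ⊥)
    (hNb : N ≠ ⊥) (hNA : N ⊓ A = ⊥) {g : G} (hg : g ∉ A) {d : ℕ} (hd : (cjS g A).relIndex A ≤ d) :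
    Nat.card A ≤ d.factorial := by
  have hsup : N ⊔ A = ⊤ := by
    rw [sup_comm]
    apply hA.2
    refine lt_of_le_of_ne le_sup_left ?_
    intro h
    apply hNb
    rw [eq_bot_iff, ← hNA]
    exact le_inf le_rfl (by rw [h]; exact le_sup_right)
  obtain ⟨n, hn, a₀, ha₀, hna⟩ : ∃ n ∈ N, ∃ a ∈ A, n * a = g := by
    have : g ∈ N ⊔ A := by rw [hsup]; trivial
    exact (Subgroup.mem_sup_of_normal_left).1 this
  have hcj : cjS g A = cjS n A := by rw [← hna, cjS_mul, cjS_of_mem ha₀]
  rw [hcj] at hd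
  have hnA : n ∉ A := fun h => hg (by rw [← hna]; exact A.mul_mem h ha₀)
  refine card_le_factorial le_rfl hd ?_
  -- the kernel
  let X : Subgroup G :=
    { carrier := {x | x ∈ A ∧ ∀ a ∈ A, (a * n * a⁻¹) * x = x * (a * n * a⁻¹)}
      one_mem' := ⟨A.one_mem, fun a _ => by simp⟩
      mul_mem' := by
        rintro x y ⟨hx, hx'⟩ ⟨hy, hy'⟩
        refine ⟨A.mul_mem hx hy, fun a ha => ?_⟩
        calc (a * n * a⁻¹) * (x * y) = ((a * n * a⁻¹) * x) * y := (mul_assoc _ _ _).symm
          _ = x * ((a * n * a⁻¹) * y) := by rw [hx' a ha, mul_assoc]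
          _ = x * (y * (a * n * a⁻¹)) := by rw [hy' a ha]
          _ = x * y * (a * n * a⁻¹) := (mul_assoc _ _ _).symm
      inv_mem' := by
        rintro x ⟨hx, hx'⟩
        refine ⟨A.inv_mem hx, fun a ha => ?_⟩
        have h := hx' a ha
        calc (a * n * a⁻¹) * x⁻¹ = x⁻¹ * (x * (a * n * a⁻¹)) * x⁻¹ := by group
          _ = x⁻¹ * ((a * n * a⁻¹) * x) * x⁻¹ := by rw [h]
          _ = x⁻¹ * (a * n * a⁻¹) := by group }
  have hXb : X = ⊥ := by
    refine eq_bot_of hA hcore (M := Subgroup.zpowers n) (fun x hx => hx.1) ?_ ?_ ?_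
    · rintro b hb x ⟨hx, hx'⟩
      refine ⟨A.mul_mem (A.mul_mem hb hx) (A.inv_mem hb), fun a ha => ?_⟩
      have h := hx' (b⁻¹ * a) (A.mul_mem (A.inv_mem hb) ha)
      have e : b⁻¹ * a * n * (b⁻¹ * a)⁻¹ = b⁻¹ * (a * n * a⁻¹) * b := by group
      rw [e] at h
      calc (a * n * a⁻¹) * (b * x * b⁻¹) = b * (b⁻¹ * (a * n * a⁻¹) * b * x) * b⁻¹ := by group
        _ = b * (x * (b⁻¹ * (a * n * a⁻¹) * b)) * b⁻¹ := by rw [h]
        _ = (b * x * b⁻¹) * (a * n * a⁻¹) := by group
    · rintro m hm x hx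
      have h := hx.2 1 A.one_mem
      simp only [one_mul, inv_one, mul_one] at h
      have hc : Commute m x := by
        obtain ⟨k, rfl⟩ := hm
        exact (show Commute n x from h).zpow_left k
      have : m * x * m⁻¹ = x := by rw [hc.eq]; group
      rw [this]; exact hx
    · intro h
      exact hnA (h (Subgroup.mem_zpowers n))
  intro x hx hx'
  have hxX : x ∈ X := by
    refine ⟨hx, fun a ha => ?_⟩
    have h1 := hx' a ha
    rw [mem_cjS] at h1
    -- `y = a⁻¹ x a`
    set y := a⁻¹ * x * a with hy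
    have hyA : y ∈ A := A.mul_mem (A.mul_mem (A.inv_mem ha) hx) ha
    have h2 : y⁻¹ * n⁻¹ * y * n ∈ N ⊓ A := by
      constructor
      · have e1 := hN.conj_mem _ (N.inv_mem hn) y⁻¹
        rw [inv_inv] at e1
        exact N.mul_mem e1 hn
      · have e2 : y⁻¹ * n⁻¹ * y * n = y⁻¹ * (n⁻¹ * y * n) := by group
        rw [e2]
        exact A.mul_mem (A.inv_mem hyA) h1
    rw [hNA, Subgroup.mem_bot] at h2
    have h3 : y * n = n * y := by
      calc y * n = n * y * (y⁻¹ * n⁻¹ * y * n) := by group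
        _ = n * y := by rw [h2, mul_one]
    calc (a * n * a⁻¹) * x = a * (n * y) * a⁻¹ := by rw [hy]; group
      _ = a * (y * n) * a⁻¹ := by rw [h3]
      _ = x * (a * n * a⁻¹) := by rw [hy]; group
  rw [hXb, Subgroup.mem_bot] at hxX
  exact hxX

/-- If a normal subgroup `N` meets `A` nontrivially then its centralizer is trivial. -/
theorem centralizer_eq_bot {A N : Subgroup G} [hN : N.Normal] (hA : IsCoatom A) (hcore : A.normalCore = ⊥)
    (hNA : N ⊓ A ≠ ⊥) : Subgroup.centralizer (N : Set G) = ⊥ := by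
  by_contra hL
  have hnorm : (Subgroup.centralizer (N : Set G)).Normal := inferInstance
  have hLA : ¬ Subgroup.centralizer (N : Set G) ≤ A := by
    intro h
    apply hL
    rw [eq_bot_iff, ← hcore]
    exact Subgroup.normal_le_normalCore.2 h
  apply hNA
  refine eq_bot_of hA hcore (M := Subgroup.centralizer (N : Set G)) inf_le_right ?_ ?_ hLA
  · rintro a ha x ⟨hx, hx'⟩
    exact ⟨hN.conj_mem _ hx _, A.mul_mem (A.mul_mem ha hx') (A.inv_mem ha)⟩
  · rintro m hm x hx
    have h := Subgroup.mem_centralizer_iff.1 hm x hx.1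
    have : m * x * m⁻¹ = x := by rw [← h]; group
    rw [this]; exact hx

/-- A maximal core-free nontrivial subgroup is self-normalising. -/
theorem not_le_of_notMem [Finite G] {A : Subgroup G} (hA : IsCoatom A) (hcore : A.normalCore = ⊥) {X : Subgroup G}
    (hXA : X ≤ A) (hX : X ≠ ⊥) (hAX : Nz A X) {g : G} (hg : g ∉ A) : ¬ cjS g X ≤ X := by
  intro h
  have heq : cjS g X = X := by
    apply Subgroup.eq_of_le_of_card_ge h
    rw [card_cjS]
  apply hX
  refine eq_bot_of hA hcore (M := Subgroup.zpowers g) hXA hAX ?_ (fun h' => hg (h' (Subgroup.mem_zpowers g)))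
  have hg1 : ∀ x ∈ X, g * x * g⁻¹ ∈ X := by
    intro x hx
    apply h
    rw [mem_cjS]
    have : g⁻¹ * (g * x * g⁻¹) * g = x := by group
    rw [this]; exact hx
  have hg2 : ∀ x ∈ X, g⁻¹ * x * g ∈ X := by
    intro x hx
    rw [← heq, mem_cjS] at hx
    exact hx
  rintro m ⟨k, rfl⟩ x hx
  have key : ∀ k : ℤ, ∀ x ∈ X, g ^ k * x * (g ^ k)⁻¹ ∈ X := by
    intro k
    induction k using Int.induction_on with
    | zero => intro x hx; simpa using hx
    | succ k ih =>
      intro x hx
      have e : g ^ ((k : ℤ) + 1) * x * (g ^ ((k : ℤ) + 1))⁻¹ = g * (g ^ (k : ℤ) * x * (g ^ (k : ℤ))⁻¹) * g⁻¹ := by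
        rw [add_comm, zpow_add, zpow_one]; group
      rw [e]; exact hg1 _ (ih x hx)
    | pred k ih =>
      intro x hx
      have e : g ^ (-(k : ℤ) - 1) * x * (g ^ (-(k : ℤ) - 1))⁻¹ =
          g⁻¹ * (g ^ (-(k : ℤ)) * x * (g ^ (-(k : ℤ)))⁻¹) * g := by
        rw [sub_eq_add_neg, add_comm, zpow_add, zpow_neg, zpow_one]; group
      rw [e]; exact hg2 _ (ih x hx)
  exact key k x hx

/-- **Trick Y.** It is enough to bound `|N ⊓ A|`. -/
theorem card_le_of_inf [Finite G] {A N : Subgroup G} [hN : N.Normal] (hA : IsCoatom A) (hcore : A.normalCore = ⊥)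
    (hNA : N ⊓ A ≠ ⊥) {g : G} (hg : g ∉ A) {d : ℕ} (hd : (cjS g A).relIndex A ≤ d) :
    Nat.card A ≤ ((d + 1) * Nat.card (N ⊓ A : Subgroup G)).factorial := by
  classical
  let D : Subgroup A := (cjS g A).subgroupOf A
  let R : Subgroup G := N ⊓ A
  have hR : Nz A R := by
    rintro a ha x ⟨hx, hx'⟩
    exact ⟨hN.conj_mem _ hx _, A.mul_mem (A.mul_mem ha hx') (A.inv_mem ha)⟩
  have hcjR : ∀ k : G, cjS k R = N ⊓ cjS k A := by
    intro k
    ext x
    rw [Subgroup.mem_inf, mem_cjS, mem_cjS, Subgroup.mem_inf]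
    constructor
    · rintro ⟨h1, h2⟩
      refine ⟨?_, h2⟩
      have := hN.conj_mem _ h1 k
      have e : k * (k⁻¹ * x * k) * k⁻¹ = x := by group
      rwa [e] at this
    · rintro ⟨h1, h2⟩
      refine ⟨?_, h2⟩
      have := hN.conj_mem _ h1 k⁻¹
      rwa [inv_inv] at this
  -- the set `W`
  let W : Set G := {x | x ∈ R ∨ ∃ a ∈ A, x ∈ cjS (a * g) R}
  have hWA : ∀ b ∈ A, ∀ x ∈ W, b * x * b⁻¹ ∈ W := by
    rintro b hb x (hx | ⟨a, ha, hx⟩)
    · exact Or.inl (hR b hb x hx)
    · refine Or.inr ⟨b * a, A.mul_mem hb ha, ?_⟩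
      rw [mem_cjS] at hx ⊢
      have e : (b * a * g)⁻¹ * (b * x * b⁻¹) * (b * a * g) = (a * g)⁻¹ * x * (a * g) := by group
      rw [e]; exact hx
  -- `W` is small
  have hWcard : W.ncard ≤ (d + 1) * Nat.card R := by
    let f : Option (A ⧸ D) × R → G := fun w =>
      match w.1 with
      | none => (w.2 : G)
      | some q => ((q.out : A) : G) * g * (w.2 : G) * (((q.out : A) : G) * g)⁻¹
    have hsub : W ⊆ Set.range f := by
      rintro x (hx | ⟨a, ha, hx⟩)
      · exact ⟨(none, ⟨x, hx⟩), rfl⟩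
      · let q : A ⧸ D := QuotientGroup.mk ⟨a, ha⟩
        have hq : (QuotientGroup.mk q.out : A ⧸ D) = QuotientGroup.mk ⟨a, ha⟩ := QuotientGroup.out_eq' q
        have h1 := QuotientGroup.eq.1 hq
        have h2 : ((q.out : A) : G)⁻¹ * a ∈ cjS g A := h1
        rw [mem_cjS] at h2
        -- `x ∈ cjS (out * g) R`
        have hx' : x ∈ cjS (((q.out : A) : G) * g) R := by
          have e : a * g = (((q.out : A) : G) * g) * (g⁻¹ * (((q.out : A) : G)⁻¹ * a) * g) := by group
          rw [e, cjS_mul] at hx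
          rw [mem_cjS] at hx ⊢
          rw [mem_cjS] at hx
          have := hR _ h2 _ hx
          have e2 : (g⁻¹ * (((q.out : A) : G)⁻¹ * a) * g) *
            ((g⁻¹ * (((q.out : A) : G)⁻¹ * a) * g)⁻¹ * ((((q.out : A) : G) * g)⁻¹ * x * (((q.out : A) : G) * g)) *
              (g⁻¹ * (((q.out : A) : G)⁻¹ * a) * g)) * (g⁻¹ * (((q.out : A) : G)⁻¹ * a) * g)⁻¹ =
              (((q.out : A) : G) * g)⁻¹ * x * (((q.out : A) : G) * g) := by group
          rwa [e2] at this
        rw [mem_cjS] at hx'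
        refine ⟨(some q, ⟨_, hx'⟩), ?_⟩
        change ((q.out : A) : G) * g * ((((q.out : A) : G) * g)⁻¹ * x * (((q.out : A) : G) * g)) *
          (((q.out : A) : G) * g)⁻¹ = x
        group
    calc W.ncard ≤ (Set.range f).ncard := Set.ncard_le_ncard hsub (Set.toFinite _)
      _ ≤ Nat.card (Option (A ⧸ D) × R) := by
          rw [← Set.image_univ, ← Set.ncard_univ]
          exact Set.ncard_image_le (Set.toFinite _)
      _ = (Nat.card (A ⧸ D) + 1) * Nat.card R := by
          rw [Nat.card_prod, Finite.card_option]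
      _ ≤ (d + 1) * Nat.card R := Nat.mul_le_mul_right _ (Nat.succ_le_succ hd)
  -- `A` acts faithfully on `W`
  let act : A → W → W := fun a w => ⟨(a : G) * w * (a : G)⁻¹, hWA a a.2 w w.2⟩
  let φ : A →* Equiv.Perm W :=
    { toFun := fun a =>
        { toFun := act a
          invFun := act a⁻¹
          left_inv := fun w => Subtype.ext (by
            change ((a⁻¹ : A) : G) * ((a : G) * w * (a : G)⁻¹) * (((a⁻¹ : A) : G))⁻¹ = w
            rw [Subgroup.coe_inv]; group)
          right_inv := fun w => Subtype.ext (by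
            change (a : G) * (((a⁻¹ : A) : G) * w * (((a⁻¹ : A) : G))⁻¹) * (a : G)⁻¹ = w
            rw [Subgroup.coe_inv]; group) }
      map_one' := by
        ext w
        change ((1 : A) : G) * w * ((1 : A) : G)⁻¹ = w
        simp
      map_mul' := by
        intro a b
        ext w
        change ((a * b : A) : G) * w * ((a * b : A) : G)⁻¹ = (a : G) * ((b : G) * w * (b : G)⁻¹) * (a : G)⁻¹
        rw [Subgroup.coe_mul]; group }
  have hφ : ∀ (a : A) (w : W), ((φ a w : W) : G) = (a : G) * w * (a : G)⁻¹ := fun a w => rfl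
  -- the subgroup generated by `W` is not inside `A`
  have hY : ¬ Subgroup.closure W ≤ A := by
    intro h
    refine not_le_of_notMem hA hcore inf_le_right hNA hR hg ?_
    intro x hx
    have hxW : x ∈ W := Or.inr ⟨1, A.one_mem, by rwa [one_mul]⟩
    rw [hcjR] at hx
    exact ⟨hx.1, h (Subgroup.subset_closure hxW)⟩
  have hinj : Function.Injective φ := by
    rw [injective_iff_map_eq_one]
    intro a₀ ha₀
    let X : Subgroup G :=
      { carrier := {x | x ∈ A ∧ ∀ w ∈ W, w * x = x * w}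
        one_mem' := ⟨A.one_mem, fun w _ => by simp⟩
        mul_mem' := by
          rintro x y ⟨hx, hx'⟩ ⟨hy, hy'⟩
          refine ⟨A.mul_mem hx hy, fun w hw => ?_⟩
          rw [← mul_assoc, hx' w hw, mul_assoc, hy' w hw, mul_assoc]
        inv_mem' := by
          rintro x ⟨hx, hx'⟩
          refine ⟨A.inv_mem hx, fun w hw => ?_⟩
          have h := hx' w hw
          calc w * x⁻¹ = x⁻¹ * (x * w) * x⁻¹ := by group
            _ = x⁻¹ * (w * x) * x⁻¹ := by rw [h]
            _ = x⁻¹ * w := by group }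
    have hXb : X = ⊥ := by
      refine eq_bot_of hA hcore (M := Subgroup.closure W) (fun x hx => hx.1) ?_ ?_ hY
      · rintro b hb x ⟨hx, hx'⟩
        refine ⟨A.mul_mem (A.mul_mem hb hx) (A.inv_mem hb), fun w hw => ?_⟩
        have h0 := hWA b⁻¹ (A.inv_mem hb) w hw
        rw [inv_inv] at h0
        have h := hx' _ h0
        calc w * (b * x * b⁻¹) = b * (b⁻¹ * w * b * x) * b⁻¹ := by group
          _ = b * (x * (b⁻¹ * w * b)) * b⁻¹ := by rw [h]
          _ = (b * x * b⁻¹) * w := by group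
      · rintro m hm x hx
        have hc : m * x = x * m := by
          induction hm using Subgroup.closure_induction with
          | mem w hw => exact hx.2 w hw
          | one => simp
          | mul a b _ _ ha hb => rw [mul_assoc, hb, ← mul_assoc, ha, mul_assoc]
          | inv a _ ha =>
            calc a⁻¹ * x = a⁻¹ * (x * a) * a⁻¹ := by group
              _ = a⁻¹ * (a * x) * a⁻¹ := by rw [ha]
              _ = x * a⁻¹ := by group
        have : m * x * m⁻¹ = x := by rw [hc]; group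
        rw [this]; exact hx
    have h1 : (a₀ : G) ∈ X := by
      refine ⟨a₀.2, fun w hw => ?_⟩
      have h2 := congrArg (fun τ : Equiv.Perm W => ((τ ⟨w, hw⟩ : W) : G)) ha₀
      simp only [hφ, Equiv.Perm.coe_one, id_eq] at h2
      calc w * (a₀ : G) = ((a₀ : G) * w * (a₀ : G)⁻¹) * a₀ := by rw [h2]
        _ = (a₀ : G) * w := by group
    rw [hXb, Subgroup.mem_bot] at h1
    exact Subtype.ext h1
  calc Nat.card A ≤ Nat.card (Equiv.Perm W) := Nat.card_le_card_of_injective φ hinj
    _ = (Nat.card W).factorial := Nat.card_perm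
    _ ≤ ((d + 1) * Nat.card R).factorial := Nat.factorial_le (by rwa [Nat.card_coe_set_eq])

end Cfsg.Agent.H717.Sims
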