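import Cfsg.Agent.H717.SimsRedA
import Cfsg.Agent.PermutationGroups.OnanScott

/-!
# Reduction of the Sims conjecture, part B: coordinates on the socle, the subdirect case and the product case
(helper717, for S3386)
-/

set_option autoImplicit false

namespace Cfsg.Agent.H717.Sims

open Cfsg.Agent.H851.Sims

variable {G : Type*} [Group G]

/-- Coordinates on a nonabelian minimal normal subgroup. -/
structure Co (N : Subgroup G) {m : ℕ} (T : Fin m → Subgroup G) (pr : Fin m → G → G) : Prop where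
  simple : ∀ i, IsSimpleGroup (T i)
  nonab : ∀ i, ∃ a ∈ T i, ∃ b ∈ T i, a * b ≠ b * a
  le : ∀ i, T i ≤ N
  norm : ∀ i, ∀ n ∈ N, ∀ t ∈ T i, n * t * n⁻¹ ∈ T i
  conj : ∀ (g : G) (i : Fin m), ∃ j, T j = cjS g (T i)
  trans : ∀ i j, ∃ g : G, T j = cjS g (T i)
  inj : Function.Injective T
  mem : ∀ i, ∀ x ∈ N, pr i x ∈ T i
  mul : ∀ i, ∀ x ∈ N, ∀ y ∈ N, pr i (x * y) = pr i x * pr i y
  same : ∀ i, ∀ x ∈ T i, pr i x = x
  ne : ∀ i j, i ≠ j → ∀ x ∈ T i, pr j x = 1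
  ext : ∀ x ∈ N, ∀ y ∈ N, (∀ i, pr i x = pr i y) → x = y
  one_iff : ∀ i, ∀ x ∈ N, pr i x = 1 ↔ ∀ t ∈ T i, x * t = t * x

theorem exists_co [Finite G] (N : Subgroup G) [N.Normal]
    (hmin : ∀ M : Subgroup G, M.Normal → M ≤ N → M = ⊥ ∨ M = N)
    (hna : ¬ ∀ x ∈ N, ∀ y ∈ N, Commute x y) :
    ∃ (m : ℕ) (T : Fin m → Subgroup G) (pr : Fin m → G → G), 0 < m ∧ Co N T pr := by
  classical
  obtain ⟨m, T, e, hm, hsimple, hTna, hTinj, hTN, hTn, hconj, htrans, he, hcoord⟩ :=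
    PermutationGroups.OnanScott.exists_coordinates N hmin hna
  let pr : Fin m → G → G := fun i x => if h : x ∈ N then ((e ⟨x, h⟩ i : T i) : G) else 1
  have hpr : ∀ i (x : G) (h : x ∈ N), pr i x = ((e ⟨x, h⟩ i : T i) : G) := fun i x h => dif_pos h
  have hsingle : ∀ i (x : G) (hx : x ∈ T i), e ⟨x, hTN i hx⟩ = Pi.mulSingle i ⟨x, hx⟩ := by
    intro i x hx
    have h1 : (⟨x, hTN i hx⟩ : N) = e.symm (Pi.mulSingle i ⟨x, hx⟩) := Subtype.ext (he i ⟨x, hx⟩).symm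
    rw [h1, MulEquiv.apply_symm_apply]
  refine ⟨m, T, pr, hm, ⟨hsimple, ?_, hTN, ?_, hconj, htrans, hTinj, ?_, ?_, ?_, ?_, ?_, ?_⟩⟩
  · intro i
    obtain ⟨a, b, hab⟩ := hTna i
    exact ⟨a, a.2, b, b.2, fun h => hab (Subtype.ext h)⟩
  · intro i n hn t ht
    exact (Subgroup.mem_normalizer_iff.1 (hTn i hn) t).1 ht
  · intro i x hx
    rw [hpr i x hx]
    exact (e ⟨x, hx⟩ i).2
  · intro i x hx y hy
    rw [hpr i x hx, hpr i y hy, hpr i _ (N.mul_mem hx hy)]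
    have : (⟨x * y, N.mul_mem hx hy⟩ : N) = ⟨x, hx⟩ * ⟨y, hy⟩ := rfl
    rw [this, map_mul]
    rfl
  · intro i x hx
    rw [hpr i x (hTN i hx), hsingle i x hx, Pi.mulSingle_eq_same]
  · intro i j hij x hx
    rw [hpr j x (hTN i hx), hsingle i x hx, Pi.mulSingle_eq_of_ne hij.symm]
    rfl
  · intro x hx y hy h
    have : e ⟨x, hx⟩ = e ⟨y, hy⟩ := by
      funext i
      apply Subtype.ext
      rw [← hpr i x hx, ← hpr i y hy, h i]
    exact congrArg Subtype.val (e.injective this)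
  · intro i x hx
    rw [hpr i x hx]
    have h1 := hcoord ⟨x, hx⟩ i
    constructor
    · intro h t ht
      exact h1.1 (Subtype.ext h) t ht
    · intro h
      have := h1.2 (fun t ht => h t ht)
      rw [this]; rfl

namespace Co

variable {N : Subgroup G} {m : ℕ} {T : Fin m → Subgroup G} {pr : Fin m → G → G}

theorem one (h : Co N T pr) (i : Fin m) : pr i 1 = 1 := h.same i 1 (T i).one_mem

theorem inv (h : Co N T pr) (i : Fin m) {x : G} (hx : x ∈ N) : pr i x⁻¹ = (pr i x)⁻¹ := by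
  have h1 := h.mul i x⁻¹ (N.inv_mem hx) x hx
  rw [inv_mul_cancel, h.one] at h1
  exact eq_inv_of_mul_eq_one_left h1.symm

/-- decomposition -/
theorem split (h : Co N T pr) (i : Fin m) {x : G} (hx : x ∈ N) :
    ∃ c ∈ N, x = pr i x * c ∧ ∀ t ∈ T i, c * t = t * c := by
  have hp : pr i x ∈ N := h.le i (h.mem i x hx)
  refine ⟨(pr i x)⁻¹ * x, N.mul_mem (N.inv_mem hp) hx, by group, ?_⟩
  rw [← h.one_iff i _ (N.mul_mem (N.inv_mem hp) hx), h.mul i _ (N.inv_mem hp) _ hx, h.inv i hp,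
    h.same i _ (h.mem i x hx), inv_mul_cancel]

theorem conj_T (h : Co N T pr) {i : Fin m} {x : G} (hx : x ∈ N) {t : G} (ht : t ∈ T i) :
    x * t * x⁻¹ = pr i x * t * (pr i x)⁻¹ := by
  obtain ⟨c, -, hxc, hc⟩ := h.split i hx
  have hct := hc t ht
  calc x * t * x⁻¹ = (pr i x * c) * t * (pr i x * c)⁻¹ := by rw [← hxc]
    _ = pr i x * (c * t) * c⁻¹ * (pr i x)⁻¹ := by group
    _ = pr i x * (t * c) * c⁻¹ * (pr i x)⁻¹ := by rw [hct]
    _ = pr i x * t * (pr i x)⁻¹ := by group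

theorem pr_conj [N.Normal] (h : Co N T pr) {g : G} {i j : Fin m} (hij : T j = cjS g (T i)) {x : G} (hx : x ∈ N) :
    pr j (g * x * g⁻¹) = g * pr i x * g⁻¹ := by
  have hN : N.Normal := inferInstance
  obtain ⟨c, hcN, hxc, hc⟩ := h.split i hx
  have h1 : g * pr i x * g⁻¹ ∈ T j := by
    rw [hij, mem_cjS]
    have : g⁻¹ * (g * pr i x * g⁻¹) * g = pr i x := by group
    rw [this]; exact h.mem i x hx
  have hgc : g * c * g⁻¹ ∈ N := hN.conj_mem c hcN g
  have h2 : pr j (g * c * g⁻¹) = 1 := by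
    rw [h.one_iff j _ hgc]
    intro t ht
    rw [hij, mem_cjS] at ht
    have h3 := hc _ ht
    calc g * c * g⁻¹ * t = g * (c * (g⁻¹ * t * g)) * g⁻¹ := by group
      _ = g * ((g⁻¹ * t * g) * c) * g⁻¹ := by rw [h3]
      _ = t * (g * c * g⁻¹) := by group
  have h3 : g * x * g⁻¹ = (g * pr i x * g⁻¹) * (g * c * g⁻¹) := by
    conv_lhs => rw [hxc]
    group
  rw [h3, h.mul j _ (h.le j h1) _ hgc, h2, mul_one, h.same j _ h1]

/-- the inverse conjugate relation -/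
theorem conj_symm {g : G} {i j : Fin m} (hij : T j = cjS g (T i)) : T i = cjS g⁻¹ (T j) := by
  rw [hij, ← cjS_mul, inv_mul_cancel]
  exact (cjS_of_mem (T i).one_mem).symm

/-- `A` is transitive on the factors if `N ⊔ A = ⊤`. -/
theorem transA [N.Normal] (h : Co N T pr) {A : Subgroup G} (hNA : N ⊔ A = ⊤) (i j : Fin m) :
    ∃ a ∈ A, T j = cjS a (T i) := by
  obtain ⟨g, hg⟩ := h.trans i j
  have hg' : g⁻¹ ∈ N ⊔ A := by rw [hNA]; trivial
  obtain ⟨n, hn, a, ha, hna⟩ := Subgroup.mem_sup_of_normal_left.1 hg'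
  -- `g⁻¹ = n a`, `g = a⁻¹ n⁻¹`
  have hg2 : g = a⁻¹ * n⁻¹ := by rw [← mul_inv_rev, hna, inv_inv]
  refine ⟨a⁻¹, A.inv_mem ha, ?_⟩
  rw [hg, hg2, cjS_mul]
  congr 1
  ext x
  rw [mem_cjS, inv_inv]
  constructor
  · intro hx
    have := h.norm i _ (N.inv_mem hn) _ hx
    have e : n⁻¹ * (n * x * n⁻¹) * n⁻¹⁻¹ = x := by group
    rwa [e] at this
  · intro hx
    exact h.norm i n hn x hx

/-- The dichotomy: product case or subdirect case. -/
theorem dichotomy [N.Normal] (h : Co N T pr) {A : Subgroup G} (hA : IsCoatom A) :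
    (∀ x ∈ N ⊓ A, ∀ i, pr i x ∈ A) ∨ ∀ i, ∀ t ∈ T i, ∃ x ∈ N ⊓ A, pr i x = t := by
  classical
  have hN : N.Normal := inferInstance
  let M : Subgroup G :=
    { carrier := {x | x ∈ N ∧ ∀ i, ∃ y ∈ N ⊓ A, pr i y = pr i x}
      one_mem' := ⟨N.one_mem, fun i => ⟨1, (N ⊓ A).one_mem, rfl⟩⟩
      mul_mem' := by
        rintro x y ⟨hx, hx'⟩ ⟨hy, hy'⟩
        refine ⟨N.mul_mem hx hy, fun i => ?_⟩
        obtain ⟨u, hu, hu'⟩ := hx' i
        obtain ⟨v, hv, hv'⟩ := hy' i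
        exact ⟨u * v, (N ⊓ A).mul_mem hu hv, by rw [h.mul i u hu.1 v hv.1, h.mul i x hx y hy, hu', hv']⟩
      inv_mem' := by
        rintro x ⟨hx, hx'⟩
        refine ⟨N.inv_mem hx, fun i => ?_⟩
        obtain ⟨u, hu, hu'⟩ := hx' i
        exact ⟨u⁻¹, (N ⊓ A).inv_mem hu, by rw [h.inv i hu.1, h.inv i hx, hu']⟩ }
  have hMN : M ≤ N := fun x hx => hx.1
  have hNAM : N ⊓ A ≤ M := fun x hx => ⟨hx.1, fun i => ⟨x, hx, rfl⟩⟩
  have hAM : Nz A M := by
    rintro a ha x ⟨hx, hx'⟩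
    refine ⟨hN.conj_mem x hx a, fun j => ?_⟩
    obtain ⟨i, hi⟩ := h.conj a⁻¹ j
    have hij : T j = cjS a (T i) := by
      have := conj_symm hi
      rwa [inv_inv] at this
    obtain ⟨y, hy, hy'⟩ := hx' i
    refine ⟨a * y * a⁻¹, ⟨hN.conj_mem y hy.1 a, A.mul_mem (A.mul_mem ha hy.2) (A.inv_mem ha)⟩, ?_⟩
    rw [h.pr_conj hij hy.1, h.pr_conj hij hx, hy']
  by_cases hMA : M ≤ A
  · left
    intro x hx i
    apply hMA
    refine ⟨h.le i (h.mem i x hx.1), fun j => ?_⟩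
    by_cases hij : j = i
    · subst hij
      exact ⟨x, hx, (h.same j _ (h.mem j x hx.1)).symm⟩
    · exact ⟨1, (N ⊓ A).one_mem, by rw [h.one, h.ne i j (Ne.symm hij) _ (h.mem i x hx.1)]⟩
  · right
    have hsup : A ⊔ M = ⊤ := by
      apply hA.2
      refine lt_of_le_of_ne le_sup_left fun h' => hMA (by rw [h']; exact le_sup_right)
    -- `N ≤ M`
    have hNM : N ≤ M := by
      -- `A M` is a subgroup
      let S : Subgroup G :=
        { carrier := {x | ∃ μ ∈ M, ∃ a ∈ A, x = μ * a}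
          one_mem' := ⟨1, M.one_mem, 1, A.one_mem, by simp⟩
          mul_mem' := by
            rintro _ _ ⟨μ, hμ, a, ha, rfl⟩ ⟨ν, hν, b, hb, rfl⟩
            exact ⟨μ * (a * ν * a⁻¹), M.mul_mem hμ (hAM a ha ν hν), a * b, A.mul_mem ha hb, by group⟩
          inv_mem' := by
            rintro _ ⟨μ, hμ, a, ha, rfl⟩
            have h1 := hAM a⁻¹ (A.inv_mem ha) μ⁻¹ (M.inv_mem hμ)
            exact ⟨_, h1, a⁻¹, A.inv_mem ha, by group⟩ }
      have hS : S = ⊤ := by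
        rw [eq_top_iff, ← hsup]
        refine sup_le (fun a ha => ⟨1, M.one_mem, a, ha, by simp⟩) (fun μ hμ => ⟨μ, hμ, 1, A.one_mem, by simp⟩)
      intro x hx
      have hxS : x ∈ S := by rw [hS]; trivial
      obtain ⟨μ, hμ, a, ha, rfl⟩ := hxS
      have haN : a ∈ N := by
        have := N.mul_mem (N.inv_mem (hMN hμ)) hx
        have e : μ⁻¹ * (μ * a) = a := by group
        rwa [e] at this
      exact M.mul_mem hμ (hNAM ⟨haN, ha⟩)
    intro i t ht
    obtain ⟨-, h2⟩ := hNM (h.le i ht)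
    obtain ⟨y, hy, hy'⟩ := h2 i
    exact ⟨y, hy, by rw [hy', h.same i t ht]⟩

/-- A subdirect subgroup has no proper subdirect normal subgroup. -/
theorem subdirect_eq (h : Co N T pr) {M X : Subgroup G} (hMN : M ≤ N) (hXM : X ≤ M)
    (hnorm : Nz M X) (hX : ∀ i, ∀ t ∈ T i, ∃ x ∈ X, pr i x = t) : M ≤ X := by
  classical
  have hXN : X ≤ N := hXM.trans hMN
  -- go to the direct product
  let M' : Subgroup (∀ i, T i) :=
    { carrier := {f | ∃ x ∈ X, ∀ i, ((f i : T i) : G) = pr i x}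
      one_mem' := ⟨1, X.one_mem, fun i => by rw [h.one]; rfl⟩
      mul_mem' := by
        rintro f f' ⟨x, hx, hf⟩ ⟨y, hy, hf'⟩
        refine ⟨x * y, X.mul_mem hx hy, fun i => ?_⟩
        rw [h.mul i x (hXN hx) y (hXN hy), ← hf i, ← hf' i]; rfl
      inv_mem' := by
        rintro f ⟨x, hx, hf⟩
        refine ⟨x⁻¹, X.inv_mem hx, fun i => ?_⟩
        rw [h.inv i (hXN hx), ← hf i]; rfl }
  have hM'surj : ∀ i, ∀ t : T i, ∃ f ∈ M', f i = t := by
    intro i t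
    obtain ⟨x, hx, hxt⟩ := hX i t t.2
    refine ⟨fun j => ⟨pr j x, h.mem j x (hXN hx)⟩, ⟨x, hx, fun j => rfl⟩, Subtype.ext hxt⟩
  have := h.simple
  have hna : ∀ i, ∃ a b : T i, a * b ≠ b * a := by
    intro i
    obtain ⟨a, ha, b, hb, hab⟩ := h.nonab i
    exact ⟨⟨a, ha⟩, ⟨b, hb⟩, fun h' => hab (congrArg Subtype.val h')⟩
  obtain ⟨c, φ, hcc, -, hφ, hM'⟩ := PermutationGroups.Subdirect.subdirect_structure hna M' hM'surj
  intro y hy
  -- the coordinates of `y` satisfy the relations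
  let f : ∀ i, T i := fun i => ⟨pr i y, h.mem i y (hMN hy)⟩
  have hf : f ∈ M' := by
    rw [hM']
    intro i
    -- `(φ i (f (c i)))⁻¹ * f i` centralises `T i`
    have hcent : ∀ t : T i, (φ i (f (c i)))⁻¹ * f i * t = t * ((φ i (f (c i)))⁻¹ * f i) := by
      intro t
      obtain ⟨w, ⟨x, hx, hw⟩, hwt⟩ := hM'surj i t
      have h1 : y * x * y⁻¹ ∈ X := hnorm y hy x hx
      have h2 : (fun j => ⟨pr j (y * x * y⁻¹), h.mem j _ (hXN h1)⟩ : ∀ j, T j) ∈ M' :=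
        ⟨_, h1, fun j => rfl⟩
      have h3 : (fun j => ⟨pr j (y * x * y⁻¹), h.mem j _ (hXN h1)⟩ : ∀ j, T j) = f * w * f⁻¹ := by
        funext j
        apply Subtype.ext
        change pr j (y * x * y⁻¹) = pr j y * (w j : G) * (pr j y)⁻¹
        rw [h.mul j _ (N.mul_mem (hMN hy) (hXN hx)) _ (N.inv_mem (hMN hy)), h.mul j _ (hMN hy) _ (hXN hx),
          h.inv j (hMN hy), hw j]
      rw [h3] at h2
      have h4 := hφ _ h2 i
      have h5 := hφ w ⟨x, hx, hw⟩ i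
      simp only [Pi.mul_apply, Pi.inv_apply, map_mul, map_inv] at h4
      rw [h5, hwt] at h4
      -- h4 : φ (f c) * t * (φ (f c))⁻¹ = f i * t * (f i)⁻¹
      calc (φ i (f (c i)))⁻¹ * f i * t = (φ i (f (c i)))⁻¹ * (f i * t * (f i)⁻¹) * f i := by group
        _ = (φ i (f (c i)))⁻¹ * (φ i (f (c i)) * t * (φ i (f (c i)))⁻¹) * f i := by rw [h4]
        _ = t * ((φ i (f (c i)))⁻¹ * f i) := by group
    -- the centre of `T i` is trivial
    have h6 : (φ i (f (c i)))⁻¹ * f i = 1 := by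
      have h7 : (φ i (f (c i)))⁻¹ * f i ∈ Subgroup.center (T i) :=
        Subgroup.mem_center_iff.2 fun t => (hcent t).symm
      rcases (inferInstance : (Subgroup.center (T i)).Normal).eq_bot_or_eq_top with h8 | h8
      · rw [h8] at h7; exact Subgroup.mem_bot.1 h7
      · exfalso
        obtain ⟨a, b, hab⟩ := hna i
        have : b ∈ Subgroup.center (T i) := by rw [h8]; trivial
        exact hab (Subgroup.mem_center_iff.1 this a)
    rw [inv_mul_eq_one] at h6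
    exact h6.symm
  obtain ⟨x, hx, hx'⟩ := hf
  have : y = x := h.ext y (hMN hy) x (hXN hx) fun i => hx' i
  rw [this]; exact hx

/-- **Subdirect case**: `N ⊓ A` acts faithfully on the suborbit. -/
theorem card_subdirect [Finite G] [N.Normal] (h : Co N T pr) {A : Subgroup G} (hA : IsCoatom A)
    (hcore : A.normalCore = ⊥) (hNA : N ⊔ A = ⊤) (hNA' : N ⊓ A ≠ ⊥)
    (hD : ∀ i, ∀ t ∈ T i, ∃ x ∈ N ⊓ A, pr i x = t) {g : G} (hg : g ∉ A) {d : ℕ}
    (hd : (cjS g A).relIndex A ≤ d) : Nat.card (N ⊓ A : Subgroup G) ≤ d.factorial := by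
  have hN : N.Normal := inferInstance
  refine card_le_factorial inf_le_right hd ?_
  let X : Subgroup G :=
    { carrier := {x | x ∈ N ⊓ A ∧ ∀ a ∈ A, a⁻¹ * x * a ∈ cjS g A}
      one_mem' := ⟨(N ⊓ A).one_mem, fun a _ => by rw [mul_one, inv_mul_cancel]; exact (cjS g A).one_mem⟩
      mul_mem' := by
        rintro x y ⟨hx, hx'⟩ ⟨hy, hy'⟩
        refine ⟨(N ⊓ A).mul_mem hx hy, fun a ha => ?_⟩
        have := (cjS g A).mul_mem (hx' a ha) (hy' a ha)
        have e : a⁻¹ * x * a * (a⁻¹ * y * a) = a⁻¹ * (x * y) * a := by group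
        rwa [e] at this
      inv_mem' := by
        rintro x ⟨hx, hx'⟩
        refine ⟨(N ⊓ A).inv_mem hx, fun a ha => ?_⟩
        have := (cjS g A).inv_mem (hx' a ha)
        have e : (a⁻¹ * x * a)⁻¹ = a⁻¹ * x⁻¹ * a := by group
        rwa [e] at this }
  have hXle : X ≤ N ⊓ A := fun x hx => hx.1
  have hAX : Nz A X := by
    rintro b hb x ⟨hx, hx'⟩
    refine ⟨⟨hN.conj_mem x hx.1 b, A.mul_mem (A.mul_mem hb hx.2) (A.inv_mem hb)⟩, fun a ha => ?_⟩
    have := hx' (b⁻¹ * a) (A.mul_mem (A.inv_mem hb) ha)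
    have e : (b⁻¹ * a)⁻¹ * x * (b⁻¹ * a) = a⁻¹ * (b * x * b⁻¹) * a := by group
    rwa [e] at this
  have hXb : X = ⊥ := by
    by_contra hXb
    -- some coordinate is not trivial
    obtain ⟨x₀, hx₀, hx₀'⟩ : ∃ y : G, y ∈ X ∧ y ≠ 1 := by
      obtain ⟨x, hx⟩ := Subgroup.ne_bot_iff_exists_ne_one.1 hXb
      exact ⟨x, x.2, fun h' => hx (Subtype.ext h')⟩
    obtain ⟨i₀, hi₀⟩ : ∃ i, pr i x₀ ≠ 1 := by
      by_contra hcon
      push Not at hcon
      exact hx₀' (h.ext x₀ hx₀.1.1 1 N.one_mem fun i => by rw [hcon i, h.one])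
    -- the image of `X` in `T i₀` is normal
    have himg : ∀ i, (∃ x ∈ X, pr i x ≠ 1) → ∀ t ∈ T i, ∃ x ∈ X, pr i x = t := by
      intro i hi
      let Y : Subgroup (T i) :=
        { carrier := {t | ∃ x ∈ X, pr i x = t}
          one_mem' := ⟨1, X.one_mem, h.one i⟩
          mul_mem' := by
            rintro s t ⟨x, hx, hxs⟩ ⟨y, hy, hyt⟩
            exact ⟨x * y, X.mul_mem hx hy, by rw [h.mul i x hx.1.1 y hy.1.1, hxs, hyt]; rfl⟩
          inv_mem' := by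
            rintro s ⟨x, hx, hxs⟩
            exact ⟨x⁻¹, X.inv_mem hx, by rw [h.inv i hx.1.1, hxs]; rfl⟩ }
      have hYn : Y.Normal := by
        refine ⟨?_⟩
        rintro s ⟨x, hx, hxs⟩ t
        obtain ⟨y, hy, hyt⟩ := hD i t t.2
        refine ⟨y * x * y⁻¹, hAX y hy.2 x hx, ?_⟩
        rw [h.mul i _ (N.mul_mem hy.1 hx.1.1) _ (N.inv_mem hy.1), h.mul i _ hy.1 _ hx.1.1, h.inv i hy.1, hxs, hyt]
        rfl
      have := h.simple i
      rcases hYn.eq_bot_or_eq_top with hY | hY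
      · exfalso
        obtain ⟨x, hx, hx1⟩ := hi
        have : (⟨pr i x, h.mem i x hx.1.1⟩ : T i) ∈ Y := ⟨x, hx, rfl⟩
        rw [hY, Subgroup.mem_bot] at this
        exact hx1 (congrArg Subtype.val this)
      · intro t ht
        have : (⟨t, ht⟩ : T i) ∈ Y := by rw [hY]; trivial
        exact this
    have hall : ∀ i, ∀ t ∈ T i, ∃ x ∈ X, pr i x = t := by
      intro j
      apply himg
      obtain ⟨a, ha, hij⟩ := h.transA hNA i₀ j
      refine ⟨a * x₀ * a⁻¹, hAX a ha x₀ hx₀, ?_⟩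
      rw [h.pr_conj hij hx₀.1.1]
      intro h'
      apply hi₀
      calc pr i₀ x₀ = a⁻¹ * (a * pr i₀ x₀ * a⁻¹) * a := by group
        _ = 1 := by rw [h']; group
    have hle := h.subdirect_eq (M := N ⊓ A) inf_le_left hXle (fun y hy x hx => hAX y hy.2 x hx) hall
    -- contradiction: `N ⊓ A ≤ cjS g A`
    have hRn : Nz A (N ⊓ A) := fun a ha x hx =>
      ⟨hN.conj_mem x hx.1 a, A.mul_mem (A.mul_mem ha hx.2) (A.inv_mem ha)⟩
    refine not_le_of_notMem hA hcore inf_le_right hNA' hRn (g := g⁻¹) (fun h' => hg (by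
      have := A.inv_mem h'; rwa [inv_inv] at this)) ?_
    intro y hy
    rw [mem_cjS, inv_inv] at hy
    have h1 := (hle hy).2 1 A.one_mem
    rw [mem_cjS] at h1
    have e : g⁻¹ * (1⁻¹ * (g * y * g⁻¹) * 1) * g = y := by group
    rw [e] at h1
    have h2 := hN.conj_mem _ hy.1 g⁻¹
    have e2 : g⁻¹ * (g * y * g⁻¹) * g⁻¹⁻¹ = y := by group
    rw [e2] at h2
    exact ⟨h2, h1⟩
  intro x hx hx'
  have : x ∈ X := ⟨hx, hx'⟩
  rw [hXb] at this
  exact Subgroup.mem_bot.1 this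

end Co

end Cfsg.Agent.H717.Sims
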