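import Cfsg.Agent.H717.SimsRedA

/-!
# Reduction of the Sims conjecture, part C: the almost simple quotient (helper717, for S3386)
-/

set_option autoImplicit false

namespace Cfsg.Agent.H717.Sims

open Cfsg.Agent.H851.Sims

variable {G : Type*} [Group G]

theorem relIndex_map_le {H : Type*} [Group H] [Finite G] (f : G →* H) (A B : Subgroup G) :
    (A.map f).relIndex (B.map f) ≤ A.relIndex B := by
  rw [← Subgroup.relIndex_comap]
  refine Subgroup.relIndex_le_of_le_left (Subgroup.le_comap_map f A) ?_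
  rw [Subgroup.relIndex]
  exact Subgroup.index_ne_zero_of_finite

/-- The data for the almost simple quotient: `T`, `A` subgroups of `L`, `φ : L → Q` surjective with kernel the
centralizer of `T`. -/
structure Quo {L Q : Type*} [Group L] [Group Q] (φ : L →* Q) (T A : Subgroup L) : Prop where
  surj : Function.Surjective φ
  ker : ∀ x, φ x = 1 ↔ ∀ t ∈ T, x * t = t * x
  gen : ∀ x, ∃ t ∈ T, ∃ a ∈ A, φ x = φ t * φ a
  norm : T.Normal
  simple : IsSimpleGroup T
  nonab : ∃ a ∈ T, ∃ b ∈ T, a * b ≠ b * a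
  maxi : ∀ Y : Subgroup L, Y ≤ T → A ⊓ T ≤ Y → Nz A Y → Y ≤ A ∨ T ≤ Y
  notle : ¬ T ≤ A
  inter : A ⊓ T ≠ ⊥

namespace Quo

variable {L Q : Type*} [Group L] [Group Q] {φ : L →* Q} {T A : Subgroup L}

theorem center (h : Quo φ T A) {z : L} (hz : z ∈ T) (hc : ∀ t ∈ T, z * t = t * z) : z = 1 := by
  have := h.simple
  have h1 : (⟨z, hz⟩ : T) ∈ Subgroup.center T := Subgroup.mem_center_iff.2 fun t => Subtype.ext (hc t t.2).symm
  rcases (inferInstance : (Subgroup.center T).Normal).eq_bot_or_eq_top with h2 | h2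
  · rw [h2, Subgroup.mem_bot] at h1
    exact congrArg Subtype.val h1
  · exfalso
    obtain ⟨a, ha, b, hb, hab⟩ := h.nonab
    have h3 : (⟨b, hb⟩ : T) ∈ Subgroup.center T := by rw [h2]; trivial
    exact hab (congrArg Subtype.val (Subgroup.mem_center_iff.1 h3 ⟨a, ha⟩))

theorem inj (h : Quo φ T A) {s t : L} (hs : s ∈ T) (ht : t ∈ T) (hst : φ s = φ t) : s = t := by
  have h1 : φ (s * t⁻¹) = 1 := by rw [map_mul, map_inv, hst, mul_inv_cancel]
  have h2 := h.center (T.mul_mem hs (T.inv_mem ht)) ((h.ker _).1 h1)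
  exact mul_inv_eq_one.1 h2

theorem mem_of_map (h : Quo φ T A) {t : L} (ht : t ∈ T) (hφ : φ t ∈ A.map φ) : t ∈ A := by
  have hT := h.norm
  let Y : Subgroup L :=
    { carrier := {x | x ∈ T ∧ (∀ r ∈ A ⊓ T, x * r * x⁻¹ ∈ A ⊓ T) ∧ ∀ r ∈ A ⊓ T, x⁻¹ * r * x ∈ A ⊓ T}
      one_mem' := by
        refine ⟨T.one_mem, fun r hr => ?_, fun r hr => ?_⟩
        · rwa [one_mul, inv_one, mul_one]
        · rwa [inv_one, one_mul, mul_one]
      mul_mem' := by
        rintro a b ⟨ha, ha1, ha2⟩ ⟨hb, hb1, hb2⟩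
        refine ⟨T.mul_mem ha hb, fun r hr => ?_, fun r hr => ?_⟩
        · have e : a * b * r * (a * b)⁻¹ = a * (b * r * b⁻¹) * a⁻¹ := by group
          rw [e]; exact ha1 _ (hb1 _ hr)
        · have e : (a * b)⁻¹ * r * (a * b) = b⁻¹ * (a⁻¹ * r * a) * b := by group
          rw [e]; exact hb2 _ (ha2 _ hr)
      inv_mem' := by
        rintro a ⟨ha, ha1, ha2⟩
        exact ⟨T.inv_mem ha, fun r hr => by rw [inv_inv]; exact ha2 r hr, fun r hr => by rw [inv_inv]; exact ha1 r hr⟩ }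
  have hAT : Nz A (A ⊓ T) := fun a ha x hx =>
    ⟨A.mul_mem (A.mul_mem ha hx.1) (A.inv_mem ha), hT.conj_mem x hx.2 a⟩
  have htY : t ∈ Y := by
    obtain ⟨a, ha, hat⟩ := hφ
    have hc : φ (a⁻¹ * t) = 1 := by rw [map_mul, map_inv, hat, inv_mul_cancel]
    have hcc := (h.ker _).1 hc
    refine ⟨ht, fun r hr => ?_, fun r hr => ?_⟩
    · have h1 := hcc r hr.2
      have e : t * r * t⁻¹ = a * r * a⁻¹ := by
        calc t * r * t⁻¹ = a * (a⁻¹ * t * r) * t⁻¹ := by group
          _ = a * (r * (a⁻¹ * t)) * t⁻¹ := by rw [h1]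
          _ = a * r * a⁻¹ := by group
      rw [e]; exact hAT a ha r hr
    · have h3 := hAT a⁻¹ (A.inv_mem ha) r hr
      rw [inv_inv] at h3
      have h1 := hcc _ h3.2
      have e : t⁻¹ * r * t = a⁻¹ * r * a := by
        calc t⁻¹ * r * t = t⁻¹ * a * (a⁻¹ * r * a * (a⁻¹ * t)) := by group
          _ = t⁻¹ * a * (a⁻¹ * t * (a⁻¹ * r * a)) := by rw [h1]
          _ = a⁻¹ * r * a := by group
      rw [e]; exact h3
  have hYT : Y ≤ T := fun x hx => hx.1
  have hRY : A ⊓ T ≤ Y := by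
    intro x hx
    refine ⟨hx.2, fun r hr => (A ⊓ T).mul_mem ((A ⊓ T).mul_mem hx hr) ((A ⊓ T).inv_mem hx),
      fun r hr => (A ⊓ T).mul_mem ((A ⊓ T).mul_mem ((A ⊓ T).inv_mem hx) hr) hx⟩
  have hAY : Nz A Y := by
    rintro a ha x ⟨hx, hx1, hx2⟩
    refine ⟨hT.conj_mem x hx a, fun r hr => ?_, fun r hr => ?_⟩
    · have h3 := hAT a⁻¹ (A.inv_mem ha) r hr
      rw [inv_inv] at h3
      have e : a * x * a⁻¹ * r * (a * x * a⁻¹)⁻¹ = a * (x * (a⁻¹ * r * a) * x⁻¹) * a⁻¹ := by group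
      rw [e]; exact hAT a ha _ (hx1 _ h3)
    · have h3 := hAT a⁻¹ (A.inv_mem ha) r hr
      rw [inv_inv] at h3
      have e : (a * x * a⁻¹)⁻¹ * r * (a * x * a⁻¹) = a * (x⁻¹ * (a⁻¹ * r * a) * x) * a⁻¹ := by group
      rw [e]; exact hAT a ha _ (hx2 _ h3)
  rcases h.maxi Y hYT hRY hAY with h4 | h4
  · exact h4 htY
  · exfalso
    have := h.simple
    have hn : ((A ⊓ T).subgroupOf T).Normal := by
      refine ⟨fun r hr x => ?_⟩
      exact (h4 x.2).2.1 _ hr
    rcases hn.eq_bot_or_eq_top with h5 | h5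
    · apply h.inter
      rw [eq_bot_iff]
      intro x hx
      have : (⟨x, hx.2⟩ : T) ∈ (A ⊓ T).subgroupOf T := hx
      rw [h5, Subgroup.mem_bot] at this
      exact congrArg Subtype.val this
    · apply h.notle
      intro x hx
      have : (⟨x, hx⟩ : T) ∈ (A ⊓ T).subgroupOf T := by rw [h5]; trivial
      exact (show x ∈ A ⊓ T from this).1

theorem notle' (h : Quo φ T A) : ¬ T.map φ ≤ A.map φ := fun h' =>
  h.notle fun _ ht => h.mem_of_map ht (h' (Subgroup.mem_map_of_mem φ ht))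

theorem coatom (h : Quo φ T A) : IsCoatom (A.map φ) := by
  constructor
  · intro h'
    exact h.notle' (by rw [h']; exact le_top)
  · intro X hX
    let Y : Subgroup L := T ⊓ X.comap φ
    have hAX : ∀ a ∈ A, φ a ∈ X := fun a ha => hX.le (Subgroup.mem_map_of_mem φ ha)
    have hT := h.norm
    rcases h.maxi Y inf_le_left (fun x hx => ⟨hx.2, hAX x hx.1⟩) (by
      rintro a ha x ⟨hx, hx'⟩
      refine ⟨hT.conj_mem x hx a, ?_⟩
      change φ (a * x * a⁻¹) ∈ X
      rw [map_mul, map_mul, map_inv]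
      exact X.mul_mem (X.mul_mem (hAX a ha) hx') (X.inv_mem (hAX a ha))) with h4 | h4
    · exfalso
      refine absurd hX (not_lt_of_ge ?_)
      intro q hq
      obtain ⟨x, rfl⟩ := h.surj q
      obtain ⟨t, ht, a, ha, hx⟩ := h.gen x
      have h5 : φ t ∈ X := by
        have := X.mul_mem hq (X.inv_mem (hAX a ha))
        rwa [hx, mul_assoc, mul_inv_cancel, mul_one] at this
      have h6 : t ∈ A := h4 ⟨ht, h5⟩
      rw [hx, ← map_mul]
      exact Subgroup.mem_map_of_mem φ (A.mul_mem h6 ha)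
    · rw [eq_top_iff]
      intro q _
      obtain ⟨x, rfl⟩ := h.surj q
      obtain ⟨t, ht, a, ha, hx⟩ := h.gen x
      rw [hx]
      exact X.mul_mem (h4 ht).2 (hAX a ha)

theorem norm' (h : Quo φ T A) : (T.map φ).Normal := h.norm.map φ h.surj

theorem simple' (h : Quo φ T A) : IsSimpleGroup (T.map φ) := by
  have := h.simple
  let e : T ≃* T.map φ := MulEquiv.ofBijective (φ.subgroupMap T) ⟨by
    intro x y hxy
    apply Subtype.ext
    exact h.inj x.2 y.2 (congrArg Subtype.val hxy), φ.subgroupMap_surjective T⟩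
  exact (MulEquiv.isSimpleGroup_congr e).1 this

theorem nonab' (h : Quo φ T A) : ∃ a ∈ T.map φ, ∃ b ∈ T.map φ, a * b ≠ b * a := by
  obtain ⟨a, ha, b, hb, hab⟩ := h.nonab
  refine ⟨φ a, Subgroup.mem_map_of_mem φ ha, φ b, Subgroup.mem_map_of_mem φ hb, fun h' => hab ?_⟩
  rw [← map_mul, ← map_mul] at h'
  exact h.inj (T.mul_mem ha hb) (T.mul_mem hb ha) h'

theorem cent' (h : Quo φ T A) : Subgroup.centralizer ((T.map φ : Subgroup Q) : Set Q) = ⊥ := by
  rw [eq_bot_iff]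
  intro q hq
  obtain ⟨x, rfl⟩ := h.surj q
  rw [Subgroup.mem_bot, h.ker]
  intro t ht
  have h1 := Subgroup.mem_centralizer_iff.1 hq (φ t) (Subgroup.mem_map_of_mem φ ht)
  rw [← map_mul, ← map_mul] at h1
  have hT := h.norm
  have h2 : x * t * x⁻¹ = t := by
    apply h.inj (hT.conj_mem t ht x) ht
    rw [map_mul, ← h1, map_mul, map_inv]
    group
  calc x * t = x * t * x⁻¹ * x := by group
    _ = t * x := by rw [h2]

theorem core' (h : Quo φ T A) : (A.map φ).normalCore = ⊥ := by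
  by_contra hne
  have hTn := h.norm'
  have hTs := h.simple'
  have hKn : (A.map φ).normalCore.Normal := inferInstance
  have hn : ((A.map φ).normalCore.subgroupOf (T.map φ)).Normal := inferInstance
  rcases hn.eq_bot_or_eq_top with h5 | h5
  · apply hne
    rw [eq_bot_iff, ← h.cent']
    intro k hk
    rw [Subgroup.mem_centralizer_iff]
    intro t ht
    have h6 : t * k * t⁻¹ * k⁻¹ ∈ (A.map φ).normalCore :=
      Subgroup.mul_mem _ (hKn.conj_mem k hk t) (Subgroup.inv_mem _ hk)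
    have h7 : t * k * t⁻¹ * k⁻¹ ∈ T.map φ := by
      have e : t * k * t⁻¹ * k⁻¹ = t * (k * t⁻¹ * k⁻¹) := by group
      rw [e]
      exact Subgroup.mul_mem _ ht (hTn.conj_mem _ (Subgroup.inv_mem _ ht) k)
    have h8 : (⟨_, h7⟩ : T.map φ) ∈ (A.map φ).normalCore.subgroupOf (T.map φ) := h6
    rw [h5, Subgroup.mem_bot] at h8
    have h9 : t * k * t⁻¹ * k⁻¹ = 1 := congrArg Subtype.val h8
    calc t * k = (t * k * t⁻¹ * k⁻¹) * k * t := by group
      _ = k * t := by rw [h9, one_mul]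
  · apply h.notle'
    intro t ht
    have : (⟨t, ht⟩ : T.map φ) ∈ (A.map φ).normalCore.subgroupOf (T.map φ) := by rw [h5]; trivial
    exact Subgroup.normalCore_le _ (show t ∈ (A.map φ).normalCore from this)

theorem card_le (h : Quo φ T A) [Finite Q] :
    Nat.card (A ⊓ T : Subgroup L) ≤ Nat.card (A.map φ ⊓ T.map φ : Subgroup Q) := by
  refine Nat.card_le_card_of_injective (fun x => (⟨φ x, Subgroup.mem_map_of_mem φ x.2.1,
    Subgroup.mem_map_of_mem φ x.2.2⟩ : (A.map φ ⊓ T.map φ : Subgroup Q))) ?_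
  intro x y hxy
  exact Subtype.ext (h.inj x.2.2 y.2.2 (congrArg Subtype.val hxy))

end Quo

end Cfsg.Agent.H717.Sims
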