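import Cfsg.Agent.H717.SimsRedB
import Cfsg.Agent.H717.SimsRedC

/-!
# Reduction of the Sims conjecture, part D: the product case (helper717, for S3386)
-/

set_option autoImplicit false

namespace Cfsg.Agent.H717.Sims

open Cfsg.Agent.H851.Sims

variable {G : Type*} [Group G]

/-- An `A`-invariant subgroup `M ≥ N ⊓ A` of `N` not inside `A` is `N`. -/
theorem le_of_not_le {A N M : Subgroup G} (hA : IsCoatom A) (hMN : M ≤ N) (hNAM : N ⊓ A ≤ M) (hAM : Nz A M)
    (hMA : ¬ M ≤ A) : N ≤ M := by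
  have hsup : A ⊔ M = ⊤ := by
    apply hA.2
    refine lt_of_le_of_ne le_sup_left fun h' => hMA (by rw [h']; exact le_sup_right)
  let S : Subgroup G :=
    { carrier := {x | ∃ μ ∈ M, ∃ a ∈ A, x = μ * a}
      one_mem' := ⟨1, M.one_mem, 1, A.one_mem, by simp⟩
      mul_mem' := by
        rintro _ _ ⟨μ, hμ, a, ha, rfl⟩ ⟨ν, hν, b, hb, rfl⟩
        exact ⟨μ * (a * ν * a⁻¹), M.mul_mem hμ (hAM a ha ν hν), a * b, A.mul_mem ha hb, by group⟩
      inv_mem' := by
        rintro _ ⟨μ, hμ, a, ha, rfl⟩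
        have h1 := hAM a⁻¹ (A.inv_mem ha) μ⁻¹ (M.inv_mem hμ)
        exact ⟨_, h1, a⁻¹, A.inv_mem ha, by group⟩ }
  have hS : S = ⊤ := by
    rw [eq_top_iff, ← hsup]
    refine sup_le (fun a ha => ⟨1, M.one_mem, a, ha, by simp⟩) (fun μ hμ => ⟨μ, hμ, 1, A.one_mem, by simp⟩)
  intro x hx
  have hxS : x ∈ S := by rw [hS]; trivial
  obtain ⟨μ, hμ, a, ha, rfl⟩ := hxS
  have haN : a ∈ N := by
    have := N.mul_mem (N.inv_mem (hMN hμ)) hx
    have e : μ⁻¹ * (μ * a) = a := by group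
    rwa [e] at this
  exact M.mul_mem hμ (hNAM ⟨haN, ha⟩)

/-- `N ⊓ A` is not inside another point stabilizer. -/
theorem not_inf_le [Finite G] {A N : Subgroup G} [hN : N.Normal] (hA : IsCoatom A) (hcore : A.normalCore = ⊥)
    (hNA' : N ⊓ A ≠ ⊥) {g : G} (hg : g ∉ A) : ¬ N ⊓ A ≤ cjS g A := by
  intro hle
  have hRn : Nz A (N ⊓ A) := fun a ha x hx =>
    ⟨hN.conj_mem x hx.1 a, A.mul_mem (A.mul_mem ha hx.2) (A.inv_mem ha)⟩
  refine not_le_of_notMem hA hcore inf_le_right hNA' hRn (g := g⁻¹) (fun h' => hg (by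
    have := A.inv_mem h'; rwa [inv_inv] at this)) ?_
  intro y hy
  rw [mem_cjS, inv_inv] at hy
  have h1 := hle hy
  rw [mem_cjS] at h1
  have e : g⁻¹ * (g * y * g⁻¹) * g = y := by group
  rw [e] at h1
  have h2 := hN.conj_mem _ hy.1 g⁻¹
  have e2 : g⁻¹ * (g * y * g⁻¹) * g⁻¹⁻¹ = y := by group
  rw [e2] at h2
  exact ⟨h2, h1⟩

namespace Co

variable {N : Subgroup G} {m : ℕ} {T : Fin m → Subgroup G} {pr : Fin m → G → G}

/-- An element all of whose coordinates are in `B` is in `B`. -/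
theorem mem_of_pr (h : Co N T pr) (B : Subgroup G) {x : G} (hx : x ∈ N) (hB : ∀ i, pr i x ∈ B) : x ∈ B := by
  classical
  have key : ∀ s : Finset (Fin m), ∀ x ∈ N, (∀ i, i ∉ s → pr i x = 1) → (∀ i, pr i x ∈ B) → x ∈ B := by
    intro s
    induction s using Finset.induction_on with
    | empty =>
      intro x hx h1 _
      have : x = 1 := h.ext x hx 1 N.one_mem fun i => by rw [h1 i (Finset.notMem_empty i), h.one]
      rw [this]; exact B.one_mem
    | insert a s ha ih =>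
      intro x hx h1 h2
      have hp : pr a x ∈ N := h.le a (h.mem a x hx)
      have hcN : (pr a x)⁻¹ * x ∈ N := N.mul_mem (N.inv_mem hp) hx
      have hpr : ∀ i, pr i ((pr a x)⁻¹ * x) = if i = a then 1 else pr i x := by
        intro i
        rw [h.mul i _ (N.inv_mem hp) _ hx, h.inv i hp]
        by_cases hia : i = a
        · subst hia
          rw [if_pos rfl, h.same i _ (h.mem i x hx), inv_mul_cancel]
        · rw [if_neg hia, h.ne a i (Ne.symm hia) _ (h.mem a x hx), inv_one, one_mul]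
      have hc : (pr a x)⁻¹ * x ∈ B := by
        refine ih _ hcN (fun i hi => ?_) (fun i => ?_)
        · rw [hpr i]
          by_cases hia : i = a
          · rw [if_pos hia]
          · rw [if_neg hia]
            exact h1 i (fun hi' => (Finset.mem_insert.1 hi').elim hia hi)
        · rw [hpr i]
          by_cases hia : i = a
          · rw [if_pos hia]; exact B.one_mem
          · rw [if_neg hia]; exact h2 i
      have := B.mul_mem (h2 a) hc
      have e : pr a x * ((pr a x)⁻¹ * x) = x := by group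
      rwa [e] at this
  exact key Finset.univ x hx (fun i hi => absurd (Finset.mem_univ i) hi) hB

/-- maximality of the factor -/
theorem maxi [N.Normal] (h : Co N T pr) {A : Subgroup G} (hA : IsCoatom A)
    (hP : ∀ x ∈ N ⊓ A, ∀ i, pr i x ∈ A) (i : Fin m) (Y1 : Subgroup G) (h1 : Y1 ≤ T i) (h2 : A ⊓ T i ≤ Y1)
    (h3 : ∀ a ∈ A, cjS a (T i) = T i → ∀ y ∈ Y1, a * y * a⁻¹ ∈ Y1) : Y1 ≤ A ∨ T i ≤ Y1 := by
  classical
  have hN : N.Normal := inferInstance
  let Y : Subgroup G :=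
    { carrier := {x | x ∈ N ∧ ∀ j, ∀ a ∈ A, T j = cjS a (T i) → a⁻¹ * pr j x * a ∈ Y1}
      one_mem' := ⟨N.one_mem, fun j a _ _ => by rw [h.one, mul_one, inv_mul_cancel]; exact Y1.one_mem⟩
      mul_mem' := by
        rintro x y ⟨hx, hx'⟩ ⟨hy, hy'⟩
        refine ⟨N.mul_mem hx hy, fun j a ha hj => ?_⟩
        have := Y1.mul_mem (hx' j a ha hj) (hy' j a ha hj)
        rw [h.mul j x hx y hy]
        have e : a⁻¹ * pr j x * a * (a⁻¹ * pr j y * a) = a⁻¹ * (pr j x * pr j y) * a := by group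
        rwa [e] at this
      inv_mem' := by
        rintro x ⟨hx, hx'⟩
        refine ⟨N.inv_mem hx, fun j a ha hj => ?_⟩
        have := Y1.inv_mem (hx' j a ha hj)
        rw [h.inv j hx]
        have e : (a⁻¹ * pr j x * a)⁻¹ = a⁻¹ * (pr j x)⁻¹ * a := by group
        rwa [e] at this }
  have hYN : Y ≤ N := fun x hx => hx.1
  have hNAY : N ⊓ A ≤ Y := by
    intro x hx
    refine ⟨hx.1, fun j a ha hj => h2 ⟨A.mul_mem (A.mul_mem (A.inv_mem ha) (hP x hx j)) ha, ?_⟩⟩
    have := h.mem j x hx.1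
    rw [hj, mem_cjS] at this
    exact this
  have hAY : Nz A Y := by
    rintro b hb x ⟨hx, hx'⟩
    refine ⟨hN.conj_mem x hx b, fun j a ha hj => ?_⟩
    obtain ⟨k, hk⟩ := h.conj b⁻¹ j
    have hjk : T j = cjS b (T k) := by
      have := conj_symm hk
      rwa [inv_inv] at this
    rw [h.pr_conj hjk hx]
    have h4 := hx' k (b⁻¹ * a) (A.mul_mem (A.inv_mem hb) ha) (by rw [cjS_mul, ← hj, hk])
    have e : (b⁻¹ * a)⁻¹ * pr k x * (b⁻¹ * a) = a⁻¹ * (b * pr k x * b⁻¹) * a := by group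
    rwa [e] at h4
  have hY1Y : Y1 ≤ Y := by
    intro y hy
    refine ⟨h.le i (h1 hy), fun j a ha hj => ?_⟩
    by_cases hji : j = i
    · subst hji
      rw [h.same j y (h1 hy)]
      have h5 : cjS a⁻¹ (T j) = T j := (conj_symm hj).symm
      have := h3 a⁻¹ (A.inv_mem ha) h5 y hy
      rwa [inv_inv] at this
    · rw [h.ne i j (Ne.symm hji) y (h1 hy), mul_one, inv_mul_cancel]
      exact Y1.one_mem
  by_cases hYA : Y ≤ A
  · exact Or.inl (hY1Y.trans hYA)
  · right
    have hNY := le_of_not_le hA hYN hNAY hAY hYA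
    intro t ht
    have h6 := (hNY (h.le i ht)).2 i 1 A.one_mem (by rw [cjS_of_mem (T i).one_mem])
    rw [h.same i t ht, inv_one, one_mul, mul_one] at h6
    exact h6

section prod

variable [Finite G] [N.Normal] (h : Co N T pr) {A : Subgroup G} (hA : IsCoatom A)
  (hcore : A.normalCore = ⊥) (hNA : N ⊔ A = ⊤) (hNA' : N ⊓ A ≠ ⊥) (hP : ∀ x ∈ N ⊓ A, ∀ i, pr i x ∈ A)

include h hA hcore hNA hNA' hP

theorem not_T_le (i : Fin m) : ¬ T i ≤ A := by
  intro hi
  have hall : ∀ j, T j ≤ A := by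
    intro j x hx
    obtain ⟨a, ha, hj⟩ := h.transA hNA i j
    rw [hj, mem_cjS] at hx
    have := A.mul_mem (A.mul_mem ha (hi hx)) (A.inv_mem ha)
    have e : a * (a⁻¹ * x * a) * a⁻¹ = x := by group
    rwa [e] at this
  have hN : N.Normal := inferInstance
  have hNle : N ≤ A := fun x hx => h.mem_of_pr A hx fun j => hall j (h.mem j x hx)
  apply hNA'
  rw [eq_bot_iff, ← hcore]
  exact inf_le_left.trans (Subgroup.normal_le_normalCore.2 hNle)

theorem inf_T_ne (i : Fin m) : A ⊓ T i ≠ ⊥ := by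
  intro hi
  have hall : ∀ j, A ⊓ T j = ⊥ := by
    intro j
    obtain ⟨a, ha, hj⟩ := h.transA hNA i j
    rw [eq_bot_iff]
    rintro x ⟨hxA, hxT⟩
    replace hxT : x ∈ T j := hxT
    rw [hj, mem_cjS] at hxT
    have : a⁻¹ * x * a ∈ A ⊓ T i := ⟨A.mul_mem (A.mul_mem (A.inv_mem ha) hxA) ha, hxT⟩
    rw [hi, Subgroup.mem_bot] at this
    rw [Subgroup.mem_bot]
    calc x = a * (a⁻¹ * x * a) * a⁻¹ := by group
      _ = 1 := by rw [this]; group
  apply hNA'
  rw [eq_bot_iff]
  intro x hx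
  rw [Subgroup.mem_bot]
  refine h.ext x hx.1 1 N.one_mem fun j => ?_
  have : pr j x ∈ A ⊓ T j := ⟨hP x hx j, h.mem j x hx.1⟩
  rw [hall j, Subgroup.mem_bot] at this
  rw [this, h.one]

theorem quo (i : Fin m) : Quo ((T i).normalizerMonoidHom.rangeRestrict)
    ((T i).subgroupOf (Subgroup.normalizer (T i : Set G))) (A.subgroupOf (Subgroup.normalizer (T i : Set G))) := by
  have hker : ∀ x : Subgroup.normalizer (T i : Set G), (T i).normalizerMonoidHom.rangeRestrict x = 1 ↔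
      ∀ t ∈ T i, (x : G) * t = t * x := by
    intro x
    rw [← MonoidHom.mem_ker, MonoidHom.ker_rangeRestrict, Subgroup.normalizerMonoidHom_ker,
      Subgroup.mem_subgroupOf, Subgroup.mem_centralizer_iff]
    exact ⟨fun h' t ht => (h' t ht).symm, fun h' t ht => (h' t ht).symm⟩
  refine ⟨MonoidHom.rangeRestrict_surjective _, ?_, ?_, inferInstance, ?_, ?_, ?_, ?_, ?_⟩
  · intro x
    rw [hker]
    constructor
    · intro h' t ht
      exact Subtype.ext (h' t ht)
    · intro h' t ht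
      exact congrArg Subtype.val (h' ⟨t, Subgroup.le_normalizer ht⟩ ht)
  · intro x
    have hx : (x : G) ∈ N ⊔ A := by rw [hNA]; trivial
    obtain ⟨n, hn, a, ha, hna⟩ := Subgroup.mem_sup_of_normal_left.1 hx
    have hnT : n ∈ Subgroup.normalizer (T i : Set G) := by
      rw [Subgroup.mem_normalizer_iff]
      intro t
      refine ⟨fun ht => h.norm i n hn t ht, fun ht => ?_⟩
      have := h.norm i _ (N.inv_mem hn) _ ht
      have e : n⁻¹ * (n * t * n⁻¹) * n⁻¹⁻¹ = t := by group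
      rwa [e] at this
    have haT : a ∈ Subgroup.normalizer (T i : Set G) := by
      have := Subgroup.mul_mem _ (Subgroup.inv_mem _ hnT) x.2
      have e : n⁻¹ * (x : G) = a := by rw [← hna]; group
      rwa [e] at this
    have hpT : pr i n ∈ Subgroup.normalizer (T i : Set G) := Subgroup.le_normalizer (h.mem i n hn)
    obtain ⟨c, hcN, hnc, hc⟩ := h.split i hn
    have hcT : c ∈ Subgroup.normalizer (T i : Set G) := by
      have := Subgroup.mul_mem _ (Subgroup.inv_mem _ hpT) hnT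
      have e : (pr i n)⁻¹ * n = c := by rw [inv_mul_eq_iff_eq_mul]; exact hnc
      rwa [e] at this
    refine ⟨⟨pr i n, hpT⟩, h.mem i n hn, ⟨a, haT⟩, ha, ?_⟩
    have hx2 : x = ⟨pr i n, hpT⟩ * ⟨c, hcT⟩ * ⟨a, haT⟩ := by
      apply Subtype.ext
      change (x : G) = pr i n * c * a
      rw [← hnc, hna]
    have hc1 : (T i).normalizerMonoidHom.rangeRestrict ⟨c, hcT⟩ = 1 := (hker _).2 hc
    rw [hx2, map_mul, map_mul, hc1, mul_one]
  · have := h.simple i
    exact (MulEquiv.isSimpleGroup_congr (Subgroup.subgroupOfEquivOfLe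
      (Subgroup.le_normalizer (H := T i)))).2 this
  · obtain ⟨a, ha, b, hb, hab⟩ := h.nonab i
    exact ⟨⟨a, Subgroup.le_normalizer ha⟩, ha, ⟨b, Subgroup.le_normalizer hb⟩, hb,
      fun h' => hab (congrArg Subtype.val h')⟩
  · intro Y hY1 hY2 hY3
    have k1 : Y.map (Subgroup.normalizer (T i : Set G)).subtype ≤ T i := by
      rintro _ ⟨y, hy, rfl⟩
      exact hY1 hy
    have k2 : A ⊓ T i ≤ Y.map (Subgroup.normalizer (T i : Set G)).subtype := by
      rintro x ⟨hxA, hxT⟩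
      exact ⟨⟨x, Subgroup.le_normalizer hxT⟩, hY2 ⟨hxA, hxT⟩, rfl⟩
    have k3 : ∀ a ∈ A, cjS a (T i) = T i → ∀ y ∈ Y.map (Subgroup.normalizer (T i : Set G)).subtype,
        a * y * a⁻¹ ∈ Y.map (Subgroup.normalizer (T i : Set G)).subtype := by
      rintro a ha haT _ ⟨y, hy, rfl⟩
      have haN : a ∈ Subgroup.normalizer (T i : Set G) := by
        rw [Subgroup.mem_normalizer_iff]
        intro t
        constructor
        · intro ht
          rw [← haT]
          exact ⟨t, ht, rfl⟩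
        · intro ht
          have : a * t * a⁻¹ ∈ cjS a (T i) := by rw [haT]; exact ht
          rw [mem_cjS] at this
          have e : a⁻¹ * (a * t * a⁻¹) * a = t := by group
          rwa [e] at this
      exact ⟨_, hY3 ⟨a, haN⟩ ha y hy, rfl⟩
    rcases h.maxi hA hP i _ k1 k2 k3 with h4 | h4
    · left
      intro y hy
      exact h4 (Subgroup.mem_map_of_mem _ hy)
    · right
      intro t ht
      obtain ⟨y, hy, hyt⟩ := h4 (show (t : G) ∈ T i from ht)
      have : y = t := Subtype.ext hyt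
      rw [← this]; exact hy
  · intro h'
    apply h.not_T_le hA hcore hNA hNA' hP i
    intro t ht
    exact h' (show (⟨t, Subgroup.le_normalizer ht⟩ : Subgroup.normalizer (T i : Set G)) ∈
      (T i).subgroupOf (Subgroup.normalizer (T i : Set G)) from ht)
  · intro h'
    apply h.inf_T_ne hA hcore hNA hNA' hP i
    rw [eq_bot_iff]
    rintro x ⟨hxA, hxT⟩
    have : (⟨x, Subgroup.le_normalizer hxT⟩ : Subgroup.normalizer (T i : Set G)) ∈
      A.subgroupOf (Subgroup.normalizer (T i : Set G)) ⊓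
        (T i).subgroupOf (Subgroup.normalizer (T i : Set G)) := ⟨hxA, hxT⟩
    rw [h', Subgroup.mem_bot] at this
    exact congrArg Subtype.val this

omit hA hcore hNA hNA' in
/-- property `P` for a conjugate of `A` -/
theorem prod_conj (g : G) : ∀ x ∈ N, x ∈ cjS g A → ∀ i, pr i x ∈ cjS g A := by
  intro x hx hxA i
  have hN : N.Normal := inferInstance
  obtain ⟨k, hk⟩ := h.conj g⁻¹ i
  have hik : T i = cjS g (T k) := by
    have := conj_symm hk
    rwa [inv_inv] at this
  rw [mem_cjS] at hxA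
  have h1 : g⁻¹ * x * g ∈ N := by
    have := hN.conj_mem x hx g⁻¹
    rwa [inv_inv] at this
  have h2 := h.pr_conj hik h1
  have e : g * (g⁻¹ * x * g) * g⁻¹ = x := by group
  rw [e] at h2
  rw [h2, mem_cjS]
  have e2 : g⁻¹ * (g * pr k (g⁻¹ * x * g) * g⁻¹) * g = pr k (g⁻¹ * x * g) := by group
  rw [e2]
  exact hP _ ⟨h1, hxA⟩ k

theorem exists_factor {g : G} (hg : g ∉ A) : ∃ i, ∃ x ∈ A ⊓ T i, x ∉ cjS g A := by
  by_contra hcon
  push Not at hcon
  refine not_inf_le hA hcore hNA' hg ?_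
  intro x hx
  exact h.mem_of_pr _ hx.1 fun i => hcon i _ ⟨hP x hx i, h.mem i x hx.1⟩

/-- The number of factors is at most `d ^ 2`. -/
theorem card_factors {g : G} (hg : g ∉ A) {d : ℕ} (hd : (cjS g A).relIndex A ≤ d) : m ≤ d * d := by
  classical
  obtain ⟨i₀, x₀, hx₀, hx₀'⟩ := h.exists_factor hA hcore hNA hNA' hP hg
  have htr : ∀ j, ∃ a : A, T j = cjS (a : G) (T i₀) := by
    intro j
    obtain ⟨a, ha, hj⟩ := h.transA hNA i₀ j
    exact ⟨⟨a, ha⟩, hj⟩
  choose a ha using htr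
  let D : Subgroup A := (cjS g A).subgroupOf A
  let x : A := ⟨x₀, hx₀.1⟩
  let f : Fin m → (A ⧸ D) × (A ⧸ D) := fun j => (QuotientGroup.mk (a j), QuotientGroup.mk (a j * x))
  have hinj : Function.Injective f := by
    intro j k hjk
    by_contra hne
    have h1 := QuotientGroup.eq.1 (congrArg Prod.fst hjk)
    have h2 := QuotientGroup.eq.1 (congrArg Prod.snd hjk)
    -- `δ = a_j⁻¹ a_k`
    set δ : A := (a j)⁻¹ * a k with hδ
    have h1' : (δ : G) ∈ cjS g A := h1
    have h2' : x₀⁻¹ * (δ : G) * x₀ ∈ cjS g A := by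
      have h3 : ((((a j * x)⁻¹ * (a k * x) : A)) : G) ∈ cjS g A := h2
      have e : ((((a j * x)⁻¹ * (a k * x) : A)) : G) = x₀⁻¹ * (δ : G) * x₀ := by
        rw [hδ]
        change ((a j : G) * x₀)⁻¹ * ((a k : G) * x₀) = x₀⁻¹ * ((a j : G)⁻¹ * (a k : G)) * x₀
        group
      rwa [e] at h3
    have h3 : x₀⁻¹ * ((δ : G) * x₀ * (δ : G)⁻¹) ∈ cjS g A := by
      have := (cjS g A).mul_mem h2' ((cjS g A).inv_mem h1')
      have e : x₀⁻¹ * (δ : G) * x₀ * (δ : G)⁻¹ = x₀⁻¹ * ((δ : G) * x₀ * (δ : G)⁻¹) := by group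
      rwa [e] at this
    obtain ⟨l, hl⟩ := h.conj (δ : G) i₀
    have hl0 : l ≠ i₀ := by
      intro hl0
      rw [hl0] at hl
      apply hne
      apply h.inj
      rw [ha j, ha k]
      have : (a k : G) = (a j : G) * (δ : G) := by
        rw [hδ]
        change (a k : G) = (a j : G) * ((a j : G)⁻¹ * (a k : G))
        group
      rw [this, cjS_mul, ← hl]
    have hz : (δ : G) * x₀ * (δ : G)⁻¹ ∈ T l := by
      rw [hl]
      exact ⟨x₀, hx₀.2, rfl⟩
    have h4 := h.prod_conj hP g _ (N.mul_mem (N.inv_mem (h.le _ hx₀.2)) (h.le l hz)) h3 i₀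
    rw [h.mul i₀ _ (N.inv_mem (h.le _ hx₀.2)) _ (h.le l hz), h.inv i₀ (h.le _ hx₀.2), h.same i₀ _ hx₀.2,
      h.ne l i₀ hl0 _ hz, mul_one] at h4
    exact hx₀' (by have := (cjS g A).inv_mem h4; rwa [inv_inv] at this)
  have h5 := Nat.card_le_card_of_injective f hinj
  rw [Nat.card_prod, Nat.card_fin] at h5
  exact h5.trans (Nat.mul_le_mul hd hd)

omit hA hcore hNA hNA' in
theorem card_inf_le {r : ℕ} (hr : ∀ i, Nat.card (A ⊓ T i : Subgroup G) ≤ r) :
    Nat.card (N ⊓ A : Subgroup G) ≤ r ^ m := by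
  classical
  let f : (N ⊓ A : Subgroup G) → ∀ i : Fin m, (A ⊓ T i : Subgroup G) := fun x i =>
    ⟨pr i x, hP x x.2 i, h.mem i x x.2.1⟩
  have hinj : Function.Injective f := by
    intro x y hxy
    apply Subtype.ext
    refine h.ext x x.2.1 y y.2.1 fun i => ?_
    exact congrArg Subtype.val (congrFun hxy i)
  calc Nat.card (N ⊓ A : Subgroup G) ≤ Nat.card (∀ i : Fin m, (A ⊓ T i : Subgroup G)) :=
        Nat.card_le_card_of_injective f hinj
    _ = ∏ i : Fin m, Nat.card (A ⊓ T i : Subgroup G) := Nat.card_pi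
    _ ≤ ∏ _i : Fin m, r := Finset.prod_le_prod' fun i _ => hr i
    _ = r ^ m := by simp

omit hA hcore hNA' hP in
theorem card_inf_T (i j : Fin m) : Nat.card (A ⊓ T j : Subgroup G) ≤ Nat.card (A ⊓ T i : Subgroup G) := by
  obtain ⟨a, ha, hj⟩ := h.transA hNA i j
  refine Nat.card_le_card_of_injective (fun x : (A ⊓ T j : Subgroup G) => (⟨a⁻¹ * x * a,
    A.mul_mem (A.mul_mem (A.inv_mem ha) x.2.1) ha,
      mem_cjS.1 (hj ▸ (show (x : G) ∈ T j from x.2.2))⟩ : (A ⊓ T i : Subgroup G))) ?_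
  intro x y hxy
  apply Subtype.ext
  have h1 : a⁻¹ * (x : G) * a = a⁻¹ * (y : G) * a := congrArg Subtype.val hxy
  exact mul_left_cancel (mul_right_cancel h1)

/-- **Product case**: the almost simple quotient. -/
theorem exists_almost_simple {g : G} (hg : g ∉ A) {d : ℕ} (hd : (cjS g A).relIndex A ≤ d) :
    ∃ i, ∃ q : ((T i).normalizerMonoidHom).range,
      q ∉ (A.subgroupOf (Subgroup.normalizer (T i : Set G))).map (T i).normalizerMonoidHom.rangeRestrict ∧
      (cjS q ((A.subgroupOf (Subgroup.normalizer (T i : Set G))).map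
        (T i).normalizerMonoidHom.rangeRestrict)).relIndex
        ((A.subgroupOf (Subgroup.normalizer (T i : Set G))).map (T i).normalizerMonoidHom.rangeRestrict) ≤ d := by
  obtain ⟨i, x, hx, hx'⟩ := h.exists_factor hA hcore hNA hNA' hP hg
  have hQ := h.quo hA hcore hNA hNA' hP i
  obtain ⟨n, hn, a₀, ha₀, hna⟩ : ∃ n ∈ N, ∃ a ∈ A, n * a = g := by
    have : g ∈ N ⊔ A := by rw [hNA]; trivial
    exact (Subgroup.mem_sup_of_normal_left).1 this
  have hcj : cjS g A = cjS n A := by rw [← hna, cjS_mul, cjS_of_mem ha₀]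
  rw [hcj] at hd hx'
  have hnT : n ∈ Subgroup.normalizer (T i : Set G) := by
    rw [Subgroup.mem_normalizer_iff]
    intro t
    refine ⟨fun ht => h.norm i n hn t ht, fun ht => ?_⟩
    have := h.norm i _ (N.inv_mem hn) _ ht
    have e : n⁻¹ * (n * t * n⁻¹) * n⁻¹⁻¹ = t := by group
    rwa [e] at this
  have hprA : pr i n ∉ A := by
    intro hp
    apply hx'
    rw [mem_cjS]
    have h1 := h.conj_T (i := i) (N.inv_mem hn) hx.2
    rw [inv_inv, h.inv i hn, inv_inv] at h1
    rw [h1]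
    exact A.mul_mem (A.mul_mem (A.inv_mem hp) hx.1) hp
  have hpT : pr i n ∈ Subgroup.normalizer (T i : Set G) := Subgroup.le_normalizer (h.mem i n hn)
  refine ⟨i, (T i).normalizerMonoidHom.rangeRestrict ⟨n, hnT⟩, ?_, ?_⟩
  · intro hq
    obtain ⟨c, hcN, hnc, hc⟩ := h.split i hn
    have hcT : c ∈ Subgroup.normalizer (T i : Set G) := by
      have := Subgroup.mul_mem _ (Subgroup.inv_mem _ hpT) hnT
      have e : (pr i n)⁻¹ * n = c := by rw [inv_mul_eq_iff_eq_mul]; exact hnc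
      rwa [e] at this
    have hn2 : (⟨n, hnT⟩ : Subgroup.normalizer (T i : Set G)) = ⟨pr i n, hpT⟩ * ⟨c, hcT⟩ := Subtype.ext hnc
    have hc1 : (T i).normalizerMonoidHom.rangeRestrict ⟨c, hcT⟩ = 1 := by
      rw [hQ.ker]
      intro t ht
      exact Subtype.ext (hc t ht)
    rw [hn2, map_mul, hc1, mul_one] at hq
    exact hprA (hQ.mem_of_map (h.mem i n hn) hq)
  · have e1 : cjS ((T i).normalizerMonoidHom.rangeRestrict ⟨n, hnT⟩)
        ((A.subgroupOf (Subgroup.normalizer (T i : Set G))).map (T i).normalizerMonoidHom.rangeRestrict) =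
        ((cjS n A).subgroupOf (Subgroup.normalizer (T i : Set G))).map (T i).normalizerMonoidHom.rangeRestrict := by
      ext q
      constructor
      · rintro ⟨_, ⟨b, hb, rfl⟩, rfl⟩
        refine ⟨⟨n, hnT⟩ * b * ⟨n, hnT⟩⁻¹, ?_, ?_⟩
        · exact ⟨(b : G), hb, rfl⟩
        · rw [map_mul, map_mul, map_inv]; rfl
      · rintro ⟨b, hb, rfl⟩
        refine ⟨(T i).normalizerMonoidHom.rangeRestrict (⟨n, hnT⟩⁻¹ * b * ⟨n, hnT⟩), ⟨_, ?_, rfl⟩, ?_⟩
        · have : (b : G) ∈ cjS n A := hb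
          rw [mem_cjS] at this
          exact this
        · change (T i).normalizerMonoidHom.rangeRestrict ⟨n, hnT⟩ *
            (T i).normalizerMonoidHom.rangeRestrict (⟨n, hnT⟩⁻¹ * b * ⟨n, hnT⟩) *
              ((T i).normalizerMonoidHom.rangeRestrict ⟨n, hnT⟩)⁻¹ = (T i).normalizerMonoidHom.rangeRestrict b
          rw [← map_inv, ← map_mul, ← map_mul]
          congr 1
          group
    rw [e1]
    refine (relIndex_map_le _ _ _).trans ?_
    refine le_trans ?_ hd
    have e2 : A.subgroupOf (Subgroup.normalizer (T i : Set G)) =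
        (A ⊓ Subgroup.normalizer (T i : Set G)).subgroupOf (Subgroup.normalizer (T i : Set G)) := by
      rw [Subgroup.inf_subgroupOf_right]
    rw [e2, Subgroup.relIndex_subgroupOf inf_le_right]
    refine Subgroup.relIndex_le_of_le_right inf_le_left ?_
    rw [Subgroup.relIndex]
    exact Subgroup.index_ne_zero_of_finite

end prod

end Co

end Cfsg.Agent.H717.Sims
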