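import Cfsg.Agent.H717.SimsRed
import Cfsg.Agent.S5752
import Cfsg.Agent.SignalizersComponents.CharP

/-!
# The Thompson–Wielandt conclusion (helper717, for S3386)
-/

set_option autoImplicit false

namespace Cfsg.Agent.H717.Sims

universe u

open Cfsg.Agent.H851.Sims

theorem index_normalCore_le {G : Type*} [Group G] [Finite G] (Y : Subgroup G) {k : ℕ} (h : Y.index ≤ k) :
    Y.normalCore.index ≤ k.factorial := by
  rw [Subgroup.normalCore_eq_ker, Subgroup.index_ker]
  calc Nat.card (MulAction.toPermHom G (G ⧸ Y)).range ≤ Nat.card (Equiv.Perm (G ⧸ Y)) :=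
        Nat.card_le_card_of_injective _ Subtype.val_injective
    _ = (Nat.card (G ⧸ Y)).factorial := Nat.card_perm
    _ ≤ k.factorial := Nat.factorial_le h

/-- the core of `Y` in `M` -/
def coreIn {G : Type*} [Group G] (M Y : Subgroup G) : Subgroup G := (Y.subgroupOf M).normalCore.map M.subtype

section

variable {G : Type*} [Group G]

theorem coreIn_le (M Y : Subgroup G) : coreIn M Y ≤ M := Subgroup.map_subtype_le _

theorem coreIn_le' (M Y : Subgroup G) : coreIn M Y ≤ Y := by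
  rintro _ ⟨y, hy, rfl⟩
  exact (Subgroup.normalCore_le (Y.subgroupOf M) hy : y ∈ Y.subgroupOf M)

theorem coreIn_subgroupOf (M Y : Subgroup G) : (coreIn M Y).subgroupOf M = (Y.subgroupOf M).normalCore := by
  rw [coreIn]
  exact Subgroup.comap_map_eq_self_of_injective M.subtype_injective _

theorem relIndex_coreIn [Finite G] (M Y : Subgroup G) {k : ℕ} (h : Y.relIndex M ≤ k) :
    (coreIn M Y).relIndex M ≤ k.factorial := by
  rw [Subgroup.relIndex, coreIn_subgroupOf]
  exact index_normalCore_le _ h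

theorem relIndex_ne_zero' [Finite G] (A B : Subgroup G) : A.relIndex B ≠ 0 := by
  rw [Subgroup.relIndex]
  exact Subgroup.index_ne_zero_of_finite

theorem coreIn_nz (M Y : Subgroup G) : Nz M (coreIn M Y) := by
  rintro a ha _ ⟨y, hy, rfl⟩
  have h : (Y.subgroupOf M).normalCore.Normal := inferInstance
  exact ⟨⟨a, ha⟩ * y * ⟨a, ha⟩⁻¹, h.conj_mem y hy ⟨a, ha⟩, rfl⟩

/-- a `p`-element of `A` with `p > d` is in the other point stabilizer -/
theorem p_le_of_ne_bot [Finite G] {A : Subgroup G} (hA : IsCoatom A) (hcore : A.normalCore = ⊥) {g : G} (hg : g ∉ A)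
    {d : ℕ} (hd : (cjS g A).relIndex A ≤ d) {p : ℕ} (hp : p.Prime) {P : Subgroup G} (hP : P ≤ A) (hPp : IsPGroup p P)
    (hPb : P ≠ ⊥) : p ≤ d := by
  classical
  by_contra hpd
  push Not at hpd
  have hkey : ∀ x ∈ A, (∃ k : ℕ, x ^ p ^ k = 1) → x ∈ cjS g A := by
    rintro x hx ⟨k, hk⟩
    let D : Subgroup A := (cjS g A).subgroupOf A
    let φ : A →* Equiv.Perm (A ⧸ D) := MulAction.toPermHom A (A ⧸ D)
    have h1 : φ ⟨x, hx⟩ ^ p ^ k = 1 := by
      rw [← map_pow]
      have : (⟨x, hx⟩ : A) ^ p ^ k = 1 := Subtype.ext hk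
      rw [this, map_one]
    have h2 : orderOf (φ ⟨x, hx⟩) ∣ (Nat.card (A ⧸ D)).factorial := by
      rw [← Nat.card_perm]
      exact orderOf_dvd_natCard _
    have h3 : Nat.Coprime (p ^ k) (Nat.card (A ⧸ D)).factorial := by
      apply Nat.Coprime.pow_left
      rw [Nat.Prime.coprime_iff_not_dvd hp, hp.dvd_factorial]
      have : Nat.card (A ⧸ D) ≤ d := hd
      omega
    have h4 : orderOf (φ ⟨x, hx⟩) = 1 := Nat.eq_one_of_dvd_coprimes h3 (orderOf_dvd_of_pow_eq_one h1) h2
    rw [orderOf_eq_one_iff] at h4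
    have h5 := congrArg (fun τ : Equiv.Perm (A ⧸ D) => τ (QuotientGroup.mk 1)) h4
    have h6 : (QuotientGroup.mk (⟨x, hx⟩ * 1) : A ⧸ D) = QuotientGroup.mk 1 := h5
    have h7 := QuotientGroup.eq.1 h6.symm
    rw [inv_one, one_mul, mul_one] at h7
    exact h7
  let S : Set G := {x | x ∈ A ∧ ∃ k : ℕ, x ^ p ^ k = 1}
  let E : Subgroup G := Subgroup.closure S
  have hEA : E ≤ A := (Subgroup.closure_le A).2 fun x hx => hx.1
  have hPE : P ≤ E := by
    intro x hx
    apply Subgroup.subset_closure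
    refine ⟨hP hx, ?_⟩
    obtain ⟨k, hk⟩ := hPp ⟨x, hx⟩
    exact ⟨k, congrArg Subtype.val hk⟩
  have hEb : E ≠ ⊥ := fun h => hPb (le_bot_iff.1 (h ▸ hPE))
  have hAE : Nz A E := by
    intro a ha x hx
    have : x ∈ E.comap (MulAut.conj a).toMonoidHom := by
      refine (Subgroup.closure_le _).2 ?_ hx
      rintro y ⟨hy, k, hk⟩
      apply Subgroup.subset_closure
      refine ⟨A.mul_mem (A.mul_mem ha hy) (A.inv_mem ha), k, ?_⟩
      have h1 : ((MulAut.conj a).toMonoidHom y) ^ p ^ k = 1 := by rw [← map_pow, hk, map_one]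
      exact h1
    exact this
  have hEE : E ≤ cjS g E := by
    refine (Subgroup.closure_le _).2 ?_
    rintro x ⟨hx, k, hk⟩
    have h1 := hkey x hx ⟨k, hk⟩
    rw [mem_cjS] at h1
    change x ∈ cjS g E
    rw [mem_cjS]
    apply Subgroup.subset_closure
    refine ⟨h1, k, ?_⟩
    have h2 : (MulAut.conj g⁻¹) (x ^ p ^ k) = 1 := by rw [hk, map_one]
    rw [map_pow, MulAut.conj_apply, inv_inv] at h2
    exact h2
  have heq : E = cjS g E := Subgroup.eq_of_le_of_card_ge hEE (by rw [card_cjS])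
  exact not_le_of_notMem hA hcore hEA hEb hAE hg (le_of_eq heq.symm)

end

/-- **Thompson–Wielandt.** -/
theorem tw (d : ℕ) : ∃ c : ℕ, d ≤ c ∧ TwConcl.{u} d c := by
  classical
  let k : ℕ := (d.factorial * d.factorial).factorial
  refine ⟨max d k, le_max_left _ _, ?_⟩
  intro G _ _ A g hA hcore hg hd
  by_cases hAb : A = ⊥
  · left
    rw [hAb, Subgroup.card_bot]
    exact (Nat.factorial_pos _).trans_le (le_max_right _ _)
  let B : Subgroup G := cjS g A
  have hne : A ≠ B := by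
    intro h
    exact not_le_of_notMem hA hcore le_rfl hAb (fun a ha x hx => A.mul_mem (A.mul_mem ha hx) (A.inv_mem ha)) hg
      (le_of_eq h.symm)
  have hd2 : A.relIndex B ≤ d := by
    -- symmetric
    have h1 : (A ⊓ B).relIndex A * Nat.card (A ⊓ B : Subgroup G) = Nat.card A := by
      rw [← Subgroup.relIndex_bot_left, ← Subgroup.relIndex_bot_left, mul_comm]
      exact Subgroup.relIndex_mul_relIndex _ _ _ bot_le inf_le_left
    have h2 : (A ⊓ B).relIndex B * Nat.card (A ⊓ B : Subgroup G) = Nat.card B := by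
      rw [← Subgroup.relIndex_bot_left, ← Subgroup.relIndex_bot_left, mul_comm]
      exact Subgroup.relIndex_mul_relIndex _ _ _ bot_le inf_le_right
    have h3 : Nat.card B = Nat.card A := card_cjS g A
    rw [h3, ← h1] at h2
    have h4 := Nat.eq_of_mul_eq_mul_right (Nat.card_pos (α := (A ⊓ B : Subgroup G))) h2
    rw [Subgroup.inf_relIndex_left, Subgroup.inf_relIndex_right] at h4
    rw [h4]; exact hd
  let AB : ℕ → Subgroup G × Subgroup G := fun n =>
    Nat.rec (A, B) (fun _ w => (coreIn A (w.1 ⊓ w.2), coreIn B (w.1 ⊓ w.2))) n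
  have hAB : ∀ i, AB (i + 1) = (coreIn A ((AB i).1 ⊓ (AB i).2), coreIn B ((AB i).1 ⊓ (AB i).2)) := fun i => rfl
  -- index bounds
  have hA1 : (AB 1).1.relIndex A ≤ d.factorial := by
    change (coreIn A (A ⊓ B)).relIndex A ≤ _
    apply relIndex_coreIn
    rw [Subgroup.inf_relIndex_left]; exact hd
  have hB1 : (AB 1).2.relIndex B ≤ d.factorial := by
    change (coreIn B (A ⊓ B)).relIndex B ≤ _
    apply relIndex_coreIn
    rw [Subgroup.inf_relIndex_right]; exact hd2
  have hA1B : (AB 1).1 ≤ A ⊓ B := coreIn_le' _ _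
  have hB1A : (AB 1).2 ≤ A ⊓ B := coreIn_le' _ _
  have hin1 : ((AB 1).1 ⊓ (AB 1).2).relIndex A ≤ d.factorial * d.factorial := by
    have h1 : ((AB 1).1 ⊓ (AB 1).2).relIndex (AB 1).1 * (AB 1).1.relIndex A =
        ((AB 1).1 ⊓ (AB 1).2).relIndex A := Subgroup.relIndex_mul_relIndex _ _ _ inf_le_left
          (hA1B.trans inf_le_left)
    rw [← h1, Subgroup.inf_relIndex_left]
    refine Nat.mul_le_mul ?_ hA1
    exact (Subgroup.relIndex_le_of_le_right (hA1B.trans inf_le_right) (relIndex_ne_zero' _ _)).trans hB1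
  have hin2 : ((AB 1).1 ⊓ (AB 1).2).relIndex B ≤ d.factorial * d.factorial := by
    have h1 : ((AB 1).1 ⊓ (AB 1).2).relIndex (AB 1).2 * (AB 1).2.relIndex B =
        ((AB 1).1 ⊓ (AB 1).2).relIndex B := Subgroup.relIndex_mul_relIndex _ _ _ inf_le_right
          (hB1A.trans inf_le_right)
    rw [← h1, Subgroup.inf_relIndex_right]
    refine Nat.mul_le_mul ?_ hB1
    exact (Subgroup.relIndex_le_of_le_right (hB1A.trans inf_le_left) (relIndex_ne_zero' _ _)).trans hA1
  have hA2 : (AB 2).1.relIndex A ≤ k := relIndex_coreIn _ _ hin1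
  have hB2 : (AB 2).2.relIndex B ≤ k := relIndex_coreIn _ _ hin2
  by_cases hA2b : (AB 2).1 = ⊥
  · left
    rw [hA2b, Subgroup.relIndex_bot_left] at hA2
    exact hA2.trans (le_max_right _ _)
  by_cases hB2b : (AB 2).2 = ⊥
  · left
    rw [hB2b, Subgroup.relIndex_bot_left, card_cjS] at hB2
    exact hB2.trans (le_max_right _ _)
  right
  obtain ⟨p, hp, hpg, hF, -⟩ := S5752.result A B hA g rfl hne hcore (fun i => (AB i).1) (fun i => (AB i).2) rfl rfl
    (fun i => rfl) (fun i => rfl) hA2b hB2b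
  have : Fact p.Prime := ⟨hp⟩
  rw [SignalizersComponents.CharP.genFitting_eq_pCore_iff] at hF
  let Q : Subgroup G := (Cfsg.pCore p A).map A.subtype
  have hpn : (Cfsg.pCore p A).Normal := Lib.Cores.pCore_normal p
  have hQp : IsPGroup p Q := (Lib.Cores.pCore_isPGroup p).map _
  have hmax : ∀ N : Subgroup G, N ≤ A → A ≤ Subgroup.normalizer (N : Set G) → IsPGroup p N → N ≤ Q := by
    intro N hNA hAN hNp
    have hn : (N.subgroupOf A).Normal := by
      refine ⟨fun x hx a => ?_⟩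
      exact (Subgroup.mem_normalizer_iff.1 (hAN a.2) x).1 hx
    have h1 : N.subgroupOf A ≤ Cfsg.pCore p A :=
      Lib.Cores.le_pCore hn (hNp.comap_of_injective _ A.subtype_injective)
    intro x hx
    exact ⟨⟨x, hNA hx⟩, h1 hx, rfl⟩
  refine ⟨p, Q, hp, ?_, Subgroup.map_subtype_le _, ?_, hQp, ?_, hmax, ?_⟩
  · refine le_trans ?_ (le_max_left _ _)
    exact p_le_of_ne_bot hA hcore hg hd hp (coreIn_le _ _) (hpg.to_le le_sup_left) hA2b
  · intro a ha
    rw [Subgroup.mem_normalizer_iff]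
    intro x
    constructor
    · rintro ⟨y, hy, rfl⟩
      exact ⟨⟨a, ha⟩ * y * ⟨a, ha⟩⁻¹, hpn.conj_mem y hy ⟨a, ha⟩, rfl⟩
    · rintro ⟨y, hy, hyx⟩
      have hyx' : (y : G) = a * x * a⁻¹ := hyx
      refine ⟨⟨a, ha⟩⁻¹ * y * ⟨a, ha⟩, ?_, ?_⟩
      · have := hpn.conj_mem y hy ⟨a, ha⟩⁻¹
        rwa [inv_inv] at this
      · change a⁻¹ * (y : G) * a = x
        rw [hyx']; group
  · rintro x ⟨hx, hxA⟩
    refine ⟨⟨x, hxA⟩, ?_, rfl⟩
    apply hF
    have hx' := Subgroup.mem_centralizer_iff.1 (show x ∈ Subgroup.centralizer (Q : Set G) from hx)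
    rw [Subgroup.mem_centralizer_iff]
    intro y hy
    exact Subtype.ext (hx' y ⟨y, hy, rfl⟩)
  · refine le_trans ?_ (le_max_right _ _)
    refine le_trans ?_ hA2
    refine Subgroup.relIndex_le_of_le_left ?_ (relIndex_ne_zero' _ _)
    refine hmax _ (coreIn_le _ _) ?_ (hpg.to_le le_sup_left)
    intro a ha
    rw [Subgroup.mem_normalizer_iff]
    intro x
    refine ⟨fun hx => coreIn_nz _ _ a ha x hx, fun hx => ?_⟩
    have := coreIn_nz A _ a⁻¹ (A.inv_mem ha) _ hx
    have e : a⁻¹ * (a * x * a⁻¹) * a⁻¹⁻¹ = x := by group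
    rwa [e] at this

/-- **Reduction theorem** for the Sims conjecture, unconditional form. -/
theorem reduction (h : ∀ c : ℕ, ∃ F : ℕ, ∀ {G : Type u} [Group G] [Finite G] (p : ℕ) (S A Q : Subgroup G) (g : G),
      Cfg c p S A Q g → Nat.card (A ⊓ S : Subgroup G) ≤ F) (d : ℕ) :
    ∃ F : ℕ, ∀ {G : Type u} [Group G] [Finite G] (A : Subgroup G) (g : G), IsCoatom A → A.normalCore = ⊥ →
      g ∉ A → (cjS g A).relIndex A ≤ d → Nat.card A ≤ F :=
  reduction_of_tw tw h d

end Cfsg.Agent.H717.Sims
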